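import Cfsg.Agent.Lib.NS.Hyp

/-!
# Groups with a normal 2-complement: basic tools for plan NS
-/

set_option autoImplicit false

namespace Cfsg.Agent.NS

open Subgroup Cfsg.Agent.OO Cfsg.Agent.Coprime GW GW2
open scoped Pointwise

universe u

variable {G : Type u} [Group G] [Finite G] {D K L T X Y : Subgroup G} {a g s t x y : G}

theorem mem_O (h : PNil 2 X) : x ∈ O X ↔ x ∈ X ∧ Odd (orderOf x) := ZG.mem_O h

theorem le_O' (h : PNil 2 X) (hK : K ≤ X) (ho : Odd ♯K) : K ≤ O X :=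
  fun _ hx => (mem_O h).2 ⟨hK hx, odd_of_mem ho hx⟩

omit [Finite G] in
theorem eq_one_of_two (hT : IsPGroup 2 T) (hx : x ∈ T) (ho : Odd (orderOf x)) : x = 1 :=
  Transfer.eq_one_of_coprime_of_mem_isPGroup hT (Nat.coprime_two_right.2 ho) hx

theorem pnil_of_odd (hK : Odd ♯K) (h : ∀ x ∈ X, Odd (orderOf x) → x ∈ K) : PNil 2 X :=
  ZG.pnil_two fun R hR h2 g hg hn ho => mem_cent_iff_conj.2 fun r hr => by
    have h1 : g * r * g⁻¹ * r⁻¹ ∈ K := by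
      rw [show g * r * g⁻¹ * r⁻¹ = g * (r * g * r⁻¹)⁻¹ by group]
      exact mul_mem (h g hg ho) (inv_mem (h _ (mul_mem (mul_mem (hR hr) hg) (inv_mem (hR hr)))
        (by rwa [orderOf_conj])))
    exact mul_inv_eq_one.1 (eq_one_of_two h2 (mul_mem (conj_mem_of_norm hn hr) (inv_mem hr))
      (odd_of_mem hK h1))

/-- an odd element and a 2-subgroup normalized by it commute -/
theorem mem_cent_of_pnil (h : PNil 2 X) (hD : IsPGroup 2 D) (hle : D ≤ X) (hy : y ∈ X)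
    (hn : y ∈ 𝐍(D)) (ho : Odd (orderOf y)) : y ∈ 𝐂(D) :=
  zpowers_le.1 (h.le_cent hD hle (odd_iff.1 (by rwa [Nat.card_zpowers])) (zpowers_le.2 hy)
    (zpowers_le.2 hn))

theorem exists_split (h : PNil 2 X) (hT : Syl 2 T X) (hg : g ∈ X) : ∃ o ∈ O X, ∃ k ∈ T,
    g = o * k ∧ ∀ a ∈ T, g * a * g⁻¹ ∈ T → g * a * g⁻¹ = k * a * k⁻¹ := by
  obtain ⟨o, ho, k, hk, rfl⟩ := (h.sdprod hT).mem_iff.1 hg
  refine ⟨o, ho, k, hk, rfl, fun a ha e => mul_inv_eq_one.1 ?_⟩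
  have hb : k * a * k⁻¹ ∈ T := mul_mem (mul_mem hk ha) (inv_mem hk)
  refine eq_one_of_two hT.isPGroup (mul_mem e (inv_mem hb)) (odd_of_mem (odd_O X) ?_)
  rw [show o * k * a * (o * k)⁻¹ * (k * a * k⁻¹)⁻¹ = o * (k * a * k⁻¹ * o⁻¹ * (k * a * k⁻¹)⁻¹) by group]
  exact mul_mem ho (conj_mem_of_norm ((h.sdprod hT).normal.2 (hT.le hb)) (inv_mem ho))

/-- the Sylow 2-subgroup controls its own fusion -/
theorem exists_conj_syl (h : PNil 2 X) (hT : Syl 2 T X) (hg : g ∈ X) (ha : a ∈ T)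
    (e : g * a * g⁻¹ ∈ T) : ∃ k ∈ T, g * a * g⁻¹ = k * a * k⁻¹ :=
  let ⟨_, _, k, hk, _, h⟩ := exists_split h hT hg; ⟨k, hk, h a ha e⟩

theorem syl_inf_cent (h : PNil 2 X) (hT : Syl 2 T X) (hD : D ≤ T) :
    Syl 2 (T ⊓ 𝐂(D)) (X ⊓ 𝐂(D)) := by
  have h1 : IsSdprod (O X ⊓ 𝐂(D)) (T ⊓ 𝐂(D)) (X ⊓ 𝐂(D)) := by
    refine .of_normal ((h.sdprod hT).normal.inf_inf _) (inf_le_inf_right _ hT.le) (fun g hg => ?_)
      (eq_bot_iff.2 fun x hx => mem_bot.2 (eq_one_of_two hT.isPGroup hx.2.1 (odd_of_mem (odd_O X) hx.1.1)))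
    obtain ⟨o, ho, k, hk, rfl, e⟩ := exists_split h hT hg.1
    have hk' : k ∈ 𝐂(D) := mem_cent_iff_conj.2 fun d hd => by
      have := mem_cent_iff_conj.1 hg.2 d hd
      rw [← e d (hD hd) (this.symm ▸ hD hd), this]
    exact mul_mem (mem_sup_left ⟨ho, (mul_mem_cancel_right hk').1 hg.2⟩) (mem_sup_right ⟨hk, hk'⟩)
  exact ⟨h1.right_le, hT.isPGroup.to_le inf_le_left,
    h1.relIndex_right ▸ (odd_of_le (odd_O X) inf_le_left).not_two_dvd_nat⟩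

theorem syl_inf_cent1 (h : PNil 2 X) (hT : Syl 2 T X) (ha : a ∈ T) :
    Syl 2 (T ⊓ 𝐂[a]) (X ⊓ 𝐂[a]) := cent_zpowers a ▸ syl_inf_cent h hT (zpowers_le.2 ha)

/-- an odd element acting non-trivially on a 2-group has no fixed points -/
theorem fpf' (hD : IsPGroup 2 D) (hle : D ≤ Y) (h : ∀ q ∈ D, q ≠ 1 → q * q = 1 → PNil 2 (Y ⊓ 𝐂[q]))
    (hy : y ∈ Y) (hn : y ∈ 𝐍(D)) (ho : Odd (orderOf y)) (h0 : D ⊓ 𝐂[y] ≠ ⊥) : y ∈ 𝐂(D) := by
  obtain ⟨q, hq, q1, q2⟩ := CIT.exists_inv (hD.to_le inf_le_left) h0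
  have hc : y ∈ 𝐂[q] := mem_cent1_comm.1 hq.2
  refine zpowers_le.1 (thompson_AxB (P := D ⊓ 𝐂[y]) (hD.to_le inf_le_left)
    (by rw [Nat.card_zpowers]; exact Nat.coprime_two_right.2 ho) (cent_zpowers y ▸ inf_le_right) hD
    (inf_le_left.trans (le_norm_self D)) (zpowers_le.2 hn) (le_cent_symm (zpowers_le.2 ?_)))
  exact cent_anti (inf_le_inf_left D (cent_zpowers q ▸ cent_anti (zpowers_le.2 hq)))
    (mem_cent_of_pnil (h q hq.1 q1 q2) (hD.to_le inf_le_left) (inf_le_inf_right _ hle) ⟨hy, hc⟩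
      (mem_norm_inf hn (le_norm_self _ hc)) ho)

theorem PN.fpf (h : PN G) (hD : IsPGroup 2 D) (hn : y ∈ 𝐍(D)) (ho : Odd (orderOf y))
    (h0 : D ⊓ 𝐂[y] ≠ ⊥) : y ∈ 𝐂(D) :=
  fpf' hD le_top (fun q _ q1 q2 => (h q q1 q2).of_le inf_le_right) (mem_top y) hn ho h0

theorem PN.cent (h : PN G) (hD : IsPGroup 2 D) (h0 : D ≠ ⊥) : PNil 2 𝐂(D) :=
  let ⟨q, hq, q1, q2⟩ := CIT.exists_inv hD h0
  (h q q1 q2).of_le (cent_zpowers q ▸ cent_anti (zpowers_le.2 hq))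

/-- passage to a subgroup -/
theorem pn_of (h : ∀ s ∈ X, s ≠ 1 → s * s = 1 → PNil 2 (X ⊓ 𝐂[s])) : PN X := fun t t1 t2 =>
  pnil_of_odd (K := (O (X ⊓ 𝐂[(t : G)])).subgroupOf X)
    (odd_of_forall fun _ ha a2 => Subtype.ext (eq_one_of_odd_of_sq (odd_of_mem (odd_O _) ha)
      (congrArg Subtype.val a2)))
    fun x hx ho => (mem_O (h t t.2 (fun e => t1 (Subtype.ext e)) (congrArg Subtype.val t2))).2
      ⟨⟨x.2, mem_cent1.2 (congrArg Subtype.val (mem_cent1.1 hx))⟩, (orderOf_coe x).symm ▸ ho⟩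

theorem Loc.pnL (h : Loc L) : PN L := pn_of fun s _ => h.pn s

end Cfsg.Agent.NS
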