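import Cfsg.Agent.Lib.NS.Basic
import Cfsg.Agent.Lib.GW2.Gwd
import Cfsg.Agent.Lib.GW2.Aut
import Cfsg.Agent.Lib.GW2.KfA
import Cfsg.Agent.Lib.GW2.Fin
import Cfsg.Agent.Lib.CS2.Sec
import Cfsg.Agent.Lib.CIT.Dih
import Cfsg.Agent.Lib.SE.NB2

/-!
# Package DIH of plan NS: the simple normal subgroup does not have dihedral Sylow 2-subgroups
-/

set_option autoImplicit false

namespace Cfsg.Agent.NS

open Subgroup Cfsg.Agent.OO Cfsg.Agent.Coprime GW GW2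
open scoped Pointwise commutatorElement MatrixGroups

universe u

namespace Di

variable {G : Type u} [Group G] [Finite G] {L Q T X : Subgroup G} {e s t x y ρ : G}

theorem dqs {n : ℕ} (h : PGrp.IsDQS n x y) (hT : ∀ g, g * g ∈ T) (hs : s ∉ T) (s2 : s * s = 1)
    (ht : t ∈ T) (t2 : t * t = 1) (hx : t ∉ zpowers x) : ∀ g ∉ zpowers x, g * g = 1 := by
  obtain ⟨m, rfl⟩ := Nat.exists_eq_add_of_le' h.1
  have ho := h.2.2.1
  have sx : s ∉ zpowers x := fun e => hs (by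
    rw [CIT.eq_of_mem_zpowers ho e (fun e' => hs (e' ▸ one_mem _)) s2, pow_succ, pow_mul, sq]
    exact hT _)
  obtain ⟨i, hi⟩ := h.mul_inv_mem sx hx
  replace hi : x ^ i = s * t⁻¹ := hi
  have io : Odd i := Int.not_even_iff_odd.1 fun ⟨j, hj⟩ => hs (by
    rw [← mul_mem_cancel_right (inv_mem ht), ← hi, hj, zpow_add]; exact hT _)
  have inv : t * x * t⁻¹ = x⁻¹ := ZG.inv_of_mem (y := x ^ i)
    (by rw [hi, mul_inv_rev, inv_inv, inv_eq s2, inv_eq t2, mul_assoc, mul_assoc, t2, mul_one])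
    (mem_zpowers_zpow_iff.2 (by
      rw [ho, ← Int.isCoprime_iff_gcd_eq_one]
      obtain ⟨j, rfl⟩ := io
      exact_mod_cast IsCoprime.pow_right (n := m + 2) (⟨1, -j, by ring⟩ : IsCoprime (2 * j + 1) 2)))
  intro g hg
  calc g * g = g * t⁻¹ * (t * (g * t⁻¹) * t⁻¹) * (t * t) := by group
    _ = 1 := by rw [ZG.inv_of_mem inv (h.mul_inv_mem hg hx), t2]; group

omit [Finite G] in
theorem cube (r : Rot t e ρ) (p : F4 t e) : ρ ^ 3 ∈ 𝐂[t] := mem_cent1_iff_conj.2 (by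
  rw [pow_three, mul_cj, mul_cj, r.ρt, r.ρe, r.ρte p])

theorem three (r : Rot t e ρ) (p : F4 t e) : constt {3} ρ ∉ 𝐂(S4 t e) := fun h =>
  r.not_mem p (cent_le_cent1 (t_mem_S4 t e) (mem_of_constt_mem h (zpowers_le.2
    (constt_pow ({3} : Set ℕ)ᶜ ρ 3 ▸ constt_mem _ (cent_S4 t e ▸ ⟨cube r p, cube (r.rot p) p.rot⟩))
      (mem_zpowers_pow_iff.2 ((Nat.Prime.coprime_iff_not_dvd Nat.prime_three).2
        ((isPiNum_compl_singleton Nat.prime_three).1 (piElt_constt _ ρ)))))))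

/-- the hypotheses that pass to subgroups containing `L` -/
structure Hy (L : Subgroup G) : Prop where
  normal : L ⊴ ⊤
  pn : ∀ s : G, s ≠ 1 → s * s = 1 → PNil 2 (L ⊓ 𝐂[s])
  smp : Smp L
  nab : ¬ Ab L
  dh : DH L

namespace Hy

variable (h : Hy L)
include h

theorem simple : IsSimpleGroup L := h.smp.isSimpleGroup fun e => h.nab (e ▸ ab_bot)

theorem sub (hX : L ≤ X) : Hy (L.subgroupOf X) :=
  have := h.simple
  ⟨normalIn_top.2 ((normalIn_top.1 h.normal).subgroupOf X), fun s s1 s2 =>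
    pnil_of_odd (K := (O (L ⊓ 𝐂[(s : G)])).subgroupOf X)
      (odd_of_forall fun _ ha a2 => Subtype.ext (eq_one_of_odd_of_sq (odd_of_mem (odd_O _) ha)
        (congrArg Subtype.val a2)))
      fun x hx ho => (mem_O (h.pn s (fun e => s1 (Subtype.ext e)) (congrArg Subtype.val s2))).2
        ⟨⟨hx.1, mem_cent1.2 (congrArg Subtype.val (mem_cent1.1 hx.2))⟩, (orderOf_coe x).symm ▸ ho⟩,
    SE.smp_of_simple (subgroupOfEquivOfLe hX).isSimpleGroup,
    fun e => h.nab (map_subgroupOf_eq_of_le hX ▸ ab_map e _),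
    h.dh.of_injective (f := (subgroupOfEquivOfLe hX).toMonoidHom) (subgroupOfEquivOfLe hX).injective⟩

theorem cent (hT : ∀ g, g * g ∈ L) : ⊤ ⊓ 𝐂(L) = ⊥ := eq_bot_iff.2 fun c hc => by_contra fun c1 => by
  have h1 : L ⊓ 𝐂(L) = ⊥ := (h.smp _ ⟨inf_le_left, le_norm_inf (le_norm_self L)
    (le_norm_cent (le_norm_self L))⟩).resolve_right fun e => h.nab (ab_iff_le_cent.2 (inf_eq_left.1 e))
  have h2 := h.pn c c1 (mem_bot.1 (h1.le (mem_inf.2 ⟨hT c, mul_mem hc.2 hc.2⟩)))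
  rw [inf_eq_left.2 (cent_zpowers c ▸ le_cent_symm (zpowers_le.2 hc.2))] at h2
  obtain ⟨P, hP⟩ := exists_syl 2 L
  exact (der_lt (sol_of_isPGroup ((h2.sdprod hP).right_eq_iff.2 (smp_O h.smp h.nab) ▸ hP.isPGroup))
    fun e : L = ⊥ => h.nab (e ▸ ab_bot)).ne (h.smp.perfect h.nab)

theorem nab_top : ¬ Ab (⊤ : Subgroup L) := fun e => h.nab (map_subtype_top L ▸ ab_map e _)

theorem inf_le (p : F4 t e) (ht : t ∈ L) (he : e ∈ L) (hQ : IsPGroup 2 Q) (hc : Q ≤ 𝐂(S4 t e)) :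
    Q ⊓ L ≤ S4 t e := fun x hx => by
  rw [cent_S4] at hc
  have := h.dh.le_four (p.subtype (ht := ht) (he := he)) (P := Q.subgroupOf L) hQ.comap_subtype
    (fun g hg => ⟨mem_cent1.2 (Subtype.ext (mem_cent1.1 (hc hg).1)),
      mem_cent1.2 (Subtype.ext (mem_cent1.1 (hc hg).2))⟩) (x := ⟨x, hx.2⟩) hx.1
  exact p.mem.2 (by simpa [Subtype.ext_iff] using p.subtype.mem.1 this)

theorem cent_le (hT : ∀ g, g * g ∈ L) (p : F4 t e) (ht : t ∈ L) (he : e ∈ L) (hQ : IsPGroup 2 Q)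
    (hc : Q ≤ 𝐂(S4 t e)) : Q ≤ S4 t e := by
  have := h.simple
  obtain ⟨R, hR, hQR⟩ := exists_syl_ge hc hQ
  obtain ⟨ρ, -, r⟩ := h.dh.exists_rot (h.dh.oc (smp_top.perfect h.nab_top))
    (p.subtype (ht := ht) (he := he)) trivial trivial
  replace r : Rot t e ρ := ⟨congrArg Subtype.val r.ρt, congrArg Subtype.val r.ρe⟩
  obtain ⟨c, hc', n, hn, e1⟩ := (hR.frattini (M := 𝐍(S4 t e))
    ⟨cent_le_norm _, norm_le_norm_cent _⟩).mem_iff.1 r.mem_norm
  replace r : Rot t e n := by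
    have := r.mul_left (x := c⁻¹) (cent_S4 t e ▸ inv_mem hc')
    rwa [← e1, inv_mul_cancel_left] at this
  have hy := constt_mem {3} hn
  have ho : Odd (orderOf (constt {3} n)) := Nat.not_even_iff_odd.1 fun e' => by
    simpa using piElt_constt {3} n 2 Nat.prime_two e'.two_dvd
  have h3 := three r p
  generalize constt {3} n = y at hy ho h3
  have yL : y ∈ L := zpowers_le.2 (sq y ▸ hT y) (ZG.mem_zp_pow (Nat.coprime_two_left.2 ho))
  have hF : S4 t e ≤ R := hR.le_of_norm p.ab.le_cent p.two (.inl (le_norm_of_le_cent hR.le))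
  refine hQR.trans fun q hq => by_contra fun q1 => h3 ?_
  obtain ⟨f, hf, h4⟩ := coprime_cent_lift (zpowers_le.2 hy.1) (p.coprime (by
    rwa [Nat.card_zpowers])).symm (.inl (sol_of_ab p.ab)) (cent_le_norm _ (hR.le hq)) fun a ha =>
      h.inf_le p ht he hR.isPGroup hR.le ⟨commutator_le_left' (zpowers_le.2 hy.2)
        (commutator_mem_commutator hq ha), commutator_le_right' (le_top.trans h.normal.norm)
          (commutator_mem_commutator hq (zpowers_le.2 yL ha))⟩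
  obtain ⟨v, hv, v1, v2⟩ := CIT.exists_inv (Q := R ⊓ 𝐂[y]) (hR.isPGroup.to_le inf_le_left) fun e' =>
    q1 ((mul_mem_cancel_left hf).1 (mem_bot.1 (e'.le (mem_inf.2
      ⟨mul_mem (hF hf) hq, cent_zpowers y ▸ h4⟩)) ▸ one_mem _))
  exact mem_cent_of_pnil (h.pn v v1 v2) p.two (le_inf (S4_le.2 ⟨ht, he⟩)
    (cent_zpowers v ▸ le_cent_symm (zpowers_le.2 (hR.le hv.1)))) ⟨yL, mem_cent1_comm.1 hv.2⟩ hy.1 ho

theorem dh_top (hT : ∀ g, g * g ∈ L) (hs : s ∉ L) (s2 : s * s = 1) : DH G := by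
  have := h.simple
  obtain ⟨t, -, e, -, p⟩ := h.dh.exists_f4' smp_top h.nab_top
  replace p : F4 (t : G) e := ⟨fun k => p.t1 (Subtype.ext k), fun k => p.e1 (Subtype.ext k),
    fun k => p.ne (Subtype.ext k),
    congrArg Subtype.val p.t2, congrArg Subtype.val p.e2, congrArg Subtype.val p.comm.eq⟩
  obtain ⟨S, hS, hF⟩ := exists_syl_ge le_top p.two
  obtain ⟨g, -, hg⟩ := hS.exists_conj_le le_top (ZG.two_elt s2)
  have s3 : g * s * g⁻¹ ∈ S := hg (conj_mem_conj (mem_zpowers s))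
  have s4 : g * s * g⁻¹ ∉ L := fun e' => hs ((mem_norm_iff.1 (h.normal.norm trivial) s).2 e')
  have hL : S4 (t : G) e ≤ L := S4_le.2 ⟨t.2, e.2⟩
  obtain ⟨n, hn⟩ := hS.isPGroup.exists_card_eq
  have h4 := card_lt (lt_of_le_of_ne hF fun e' => s4 (hL (e'.ge s3)))
  rw [p.card, hn, show 4 = 2 ^ 2 from rfl, Nat.pow_lt_pow_iff_right one_lt_two] at h4
  obtain ⟨n, rfl⟩ : ∃ m, n = m + 3 := ⟨n - 3, by omega⟩
  obtain ⟨x, y, hxy⟩ := PGrp.dqs_of_maxClass hn (PGrp.nilpotencyClass_eq_of_centralizer_le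
    (n := n + 1) hn (A := (S4 (t : G) e).subgroupOf S) (by rw [Core.card_subgroupOf_of_le hF, p.card]; rfl)
    (Core.centralizer_le_iff_map_subtype.2 (by
      rw [map_subgroupOf_eq_of_le hF]
      exact h.cent_le hT p t.2 e.2 (hS.isPGroup.to_le inf_le_left) inf_le_right)))
  have k : ∀ a : S, (a : G) ∈ zpowers (x : G) ↔ a ∈ zpowers x := fun a => by
    rw [← mem_map_iff_mem S.subtype_injective, MonoidHom.map_zpowers]; rfl
  obtain ⟨u, hu, ux⟩ : ∃ u ∈ S4 (t : G) e, u ∉ zpowers (x : G) := SetLike.not_le_iff_exists.1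
    fun e' => p.pair.isEp.not_isCyclic le_rfl (isCyclic_of_le' inferInstance e')
  refine CS2.dh_of_syl hS (a := x) (fun a ha ax => congrArg Subtype.val
    (dqs hxy (T := L.subgroupOf S) (fun b => hT b) (s := ⟨_, s3⟩) s4 (Subtype.ext (conj_sq s2 g))
      (t := ⟨u, hF hu⟩) (hL hu) (Subtype.ext (p.sq hu)) (mt (k _).2 ux) ⟨a, ha⟩ (mt (k _).2 ax)))
    fun a ha b hb ax bx => (k (⟨a, ha⟩ * ⟨b, hb⟩)).2 ?_
  rw [mul_mem_iff_of_index_two hxy.index]
  exact iff_of_false (mt (k _).2 ax) (mt (k _).2 bx)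

/-- the group generated by `L` and an involution -/
theorem sup (s2 : s * s = 1) : DH (L ⊔ zpowers s : Subgroup G) ∧
    ⊤ ⊓ 𝐂(L.subgroupOf (L ⊔ zpowers s)) = ⊥ := by
  have h1 := h.sub (le_sup_left (b := zpowers s))
  have hT : ∀ g : (L ⊔ zpowers s : Subgroup G), g * g ∈ L.subgroupOf _ := fun g => by
    obtain ⟨a, ha, b, hb, e⟩ := (IsProd.of_norm (.inr (le_top.trans h.normal.norm))).mem_iff.1 g.2
    change g.1 * g.1 ∈ L
    rw [← e, show a * b * (a * b) = a * (b * a * b⁻¹) * (b * b) by group, show b * b = 1 by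
      rcases (mem_zp s2).1 hb with rfl | rfl <;> simp [s2], mul_one]
    exact mul_mem ha (h.normal.conj_mem trivial ha)
  refine ⟨?_, h1.cent hT⟩
  by_cases hs : s ∈ L
  · rw [sup_eq_left.2 (zpowers_le.2 hs)]; exact h.dh
  · exact h1.dh_top hT (s := ⟨s, mem_sup_right (mem_zpowers s)⟩) hs (Subtype.ext s2)

theorem l2 (hL : L2 L) : ∃ x ∈ L, (orderOf x).Prime ∧ orderOf x ≠ 2 ∧
    ∀ s ∈ 𝐂[x], s * s = 1 → s = 1 := by
  obtain ⟨F, _, _, h5, hq, ⟨φ⟩⟩ := hL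
  obtain ⟨f, hk, rfl⟩ := JR.L2.exists_hom φ
  obtain ⟨p, hp⟩ := CharP.exists F
  obtain ⟨n, pp, hn⟩ := FiniteField.card F p
  have := Fact.mk pp
  have p2 : p ≠ 2 := fun e => hq.not_two_dvd_nat (hn ▸ e ▸ dvd_pow_self p n.ne_zero)
  obtain ⟨x, hx⟩ : ∃ x : SL(2, F), x.1 = !![1, 1; 0, 1] := ⟨⟨_, by simp⟩, rfl⟩
  have hz : x ∉ center SL(2, F) := fun h => by
    obtain ⟨z, h7⟩ := Lin.SL2.mem_center_iff_scalar.1 h
    simpa [hx] using congrFun (congrFun h7 0) 1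
  have xp : x ^ p = 1 := Subtype.ext (by
    rw [Fi.up_pow hx, CharP.cast_eq_zero, zero_mul]; exact Matrix.one_fin_two.symm)
  have ho : orderOf (f x) = p := orderOf_eq_prime (by rw [← map_pow, xp, map_one]) (mt (hk.le ·) hz)
  refine ⟨f x, ⟨x, rfl⟩, ho ▸ pp, ho ▸ p2, fun s hs s2 => by_contra fun s1 => ?_⟩
  obtain ⟨hd, hc⟩ := h.sup s2
  let f' := f.codRestrict (f.range ⊔ zpowers s) fun y => mem_sup_left ⟨y, rfl⟩
  have e : f.range.subgroupOf (f.range ⊔ zpowers s) = f'.range := Subgroup.ext fun g =>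
    ⟨fun ⟨y, hy⟩ => ⟨y, Subtype.ext hy⟩, fun ⟨y, hy⟩ => ⟨y, congrArg Subtype.val hy⟩⟩
  have hk' : f'.ker = center SL(2, F) := (f.ker_codRestrict _ _).trans hk
  let u : (f.range ⊔ zpowers s : Subgroup G) := ⟨s, mem_sup_right (mem_zpowers s)⟩
  have u2 : u * u = 1 := Subtype.ext s2
  obtain ⟨m, σ, hm⟩ := Au.exists_sm hk' hq h5 (e ▸ (h.sub le_sup_left).normal.norm (mem_top u))
  obtain rfl := hm.lin hk' hq hd u2
  have h1 := hm.trace hk' hq u2 fun k =>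
    s1 (congrArg Subtype.val (mem_bot.1 (hc.le (mem_inf.2 ⟨mem_top u, e ▸ k⟩))))
  have h2 := (hm.commute hk' hq (y := x) ((pp.odd_of_ne_two p2).of_dvd_nat
    (orderOf_dvd_of_pow_eq_one xp)) (mem_cent1.2 (Subtype.ext (mem_cent1.1 hs)))).eq
  rw [hx] at h2
  have e1 := congrFun (congrFun h2 0) 0
  have e2 := congrFun (congrFun h2 0) 1
  simp [Matrix.mul_apply, Fin.sum_univ_two] at e1 e2
  rw [Matrix.trace_fin_two] at h1
  refine Au.det_ne m (mul_left_cancel₀ (S4357.two_ne_zero' hq) ?_)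
  rw [Matrix.det_fin_two, e1]
  linear_combination m.1 1 1 * h1 + m.1 1 1 * e2

theorem a7 (hL : ¬ L2 L) : ∃ x ∈ L, (orderOf x).Prime ∧ orderOf x ≠ 2 ∧
    ∀ s ∈ 𝐂[x], s * s = 1 → s = 1 := by
  have := h.simple
  have h7 := A7T.of_subtype h.smp ((gwd L ⊤ h.dh smp_top h.nab_top).resolve_left (mt L2.of_top hL))
  obtain ⟨x, hx, e⟩ := cauchy (H := L) (p := 7) (by decide) (h7.card ▸ by decide)
  refine ⟨x, hx, e ▸ by decide, e ▸ by decide, fun s hs s2 => by_contra fun s1 => ?_⟩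
  obtain ⟨hd, hc⟩ := h.sup s2
  have h1 := h.sub (le_sup_left (b := zpowers s))
  have h2 : s ∈ L := Kf.a7_le hd ((gwd _ _ hd h1.smp h1.nab).resolve_left fun ⟨F, _, _, a, b, ⟨φ⟩⟩ =>
    hL ⟨F, _, _, a, b, ⟨(subgroupOfEquivOfLe le_sup_left).symm.trans φ⟩⟩) h1.normal hc
      (mem_top ⟨s, mem_sup_right (mem_zpowers s)⟩)
  have := OO.orderOf_dvd_card (mem_inf.2 ⟨hx, mem_cent1_comm.1 hs⟩)
  rw [e, (h7.loc s h2 s1 s2).1] at this
  exact absurd this (by decide)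

end Hy

end Di

theorem dih : DIH.{u} := fun _ _ _ L h hD => by
  have k : Di.Hy L := ⟨h.normal, h.pn, h.smp, h.nab, hD⟩
  obtain ⟨x, hx, h1, h2, h3⟩ := (em (L2 L)).elim k.l2 k.a7
  obtain ⟨s, hs, s1, s2⟩ := h.inv x hx h1 h2
  exact s1 (h3 s hs s2)

end Cfsg.Agent.NS
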