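import Cfsg.Agent.Lib.NS.Basic

/-!
# Package FUS of plan NS
-/

set_option autoImplicit false
set_option linter.unusedSectionVars false

namespace Cfsg.Agent.NS

open Subgroup Cfsg.Agent.OO Cfsg.Agent.Coprime GW GW2
open scoped Pointwise

universe u

namespace Fu

variable {G : Type u} [Group G] [Finite G] {T : Subgroup G} {z f a b c e g x y : G}

theorem exists_four (hT : IsPGroup 2 T) (hx : x ∈ T) (x2 : x * x ≠ 1) :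
    ∃ t ∈ zpowers x, t * t ≠ 1 ∧ t * t * (t * t) = 1 := by
  obtain ⟨q, hq, q1, q2⟩ := CIT.exists_inv (Q := zpowers (x * x))
    (hT.to_le (zpowers_le.2 (mul_mem hx hx))) (by rwa [Ne, zpowers_eq_bot])
  obtain ⟨i, rfl⟩ := hq
  exact ⟨x ^ i, zpow_mem_zpowers x i, by rwa [← (Commute.refl x).mul_zpow],
    by rwa [← (Commute.refl x).mul_zpow]⟩

theorem thompson (hp : der (⊤ : Subgroup G) = ⊤) (hT : Syl 2 T ⊤) {M : Subgroup G} (hM : M ≤ T)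
    (hi : M.relIndex T = 2) (a2 : a * a = 1) : ∃ g, g * a * g⁻¹ ∈ M := by
  by_contra! h
  obtain ⟨P, rfl⟩ := hT.exists_sylow_top
  obtain ⟨N, hN, h1, h3⟩ := Transfer.thompson_transfer_sylow P hM hi (t := a) (by rwa [sq])
    fun g => by simpa using h g⁻¹
  refine h3 ((?_ : der (⊤ : Subgroup G) ≤ N) (hp.symm ▸ mem_top a))
  refine commutator_le.2 fun x _ y _ => ?_
  rw [commutatorElement_def, mul_assoc, mul_assoc, mul_mem_iff_of_index_two h1,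
    mul_mem_iff_of_index_two h1, mul_mem_iff_of_index_two h1, inv_mem_iff, inv_mem_iff]
  tauto

/-- the setting of FUS -/
structure H (T : Subgroup G) (z f a : G) : Prop where
  pn : PN G
  perf : der (⊤ : Subgroup G) = ⊤
  syl : Syl 2 T ⊤
  f4 : F4 z f
  nrm : S4 z f ⊴ T
  cz : T ≤ 𝐂[z]
  aT : a ∈ T
  a2 : a * a = 1
  af : a ∉ 𝐂[f]
  inv : ∀ e ∈ 𝐂[a] ⊓ 𝐂[z], e * e = 1 → e ∈ S4 z a

namespace H

variable (h : H T z f a)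
include h

theorem zT : z ∈ T := h.nrm.1 (t_mem_S4 z f)
theorem fT : f ∈ T := h.nrm.1 (s_mem_S4 z f)

theorem za : F4 z a :=
  f4_of_mem h.f4.t1 h.f4.t2 (fun e => h.af (e ▸ one_mem _)) h.a2 (h.cz h.aT)
    fun e => h.af (e ▸ h.f4.t_mem)

theorem conj_f (hg : g ∈ T) (hf : g ∉ 𝐂[f]) : g * f * g⁻¹ = z * f :=
  (h.f4.eq_or (h.f4.conj_cent (h.cz hg)) (conj_mem_of_norm (h.nrm.2 hg) (s_mem_S4 z f))).resolve_left
    fun e => hf (mem_cent1_iff_conj.2 e)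

theorem mul_mem_C (hx : x ∈ T) (hy : y ∈ T) (hx' : x ∉ 𝐂[f]) (hy' : y ∉ 𝐂[f]) : x * y ∈ 𝐂[f] := by
  rw [mem_cent1_iff_conj, mul_cj, h.conj_f hy hy', cj_mul, h.conj_f hx hx',
    mem_cent1_iff_conj.1 (h.cz hx), ← mul_assoc, h.f4.t2, one_mul]

theorem sq_mem_C (hx : x ∈ T) : x * x ∈ 𝐂[f] := by
  by_cases hx' : x ∈ 𝐂[f]
  exacts [mul_mem hx' hx', h.mul_mem_C hx hx hx' hx']

theorem conj_mem_C (hg : g ∈ T) (hx : x ∈ T) (e : g * x * g⁻¹ ∈ 𝐂[f]) : x ∈ 𝐂[f] := by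
  by_contra hx'
  by_cases hg' : g ∈ 𝐂[f]
  · exact hx' ((mul_mem_cancel_left hg').1 ((mul_mem_cancel_right (inv_mem hg')).1 e))
  · exact hg' (inv_mem_iff.1 ((mul_mem_cancel_left (h.mul_mem_C hg hx hg' hx')).1 e))

theorem idx : (T ⊓ 𝐂[f]).relIndex T = 2 :=
  relIndex_eq_two_iff.2 ⟨a, h.aT, fun b hb => by
    by_cases hb' : b ∈ 𝐂[f]
    · exact Or.inr ⟨⟨hb, hb'⟩, fun e => h.af ((mul_mem_cancel_left hb').1 e.2)⟩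
    · exact Or.inl ⟨⟨mul_mem hb h.aT, h.mul_mem_C hb h.aT hb' h.af⟩, fun e => hb' e.2⟩⟩

theorem eq_z (he : e ∈ T ⊓ 𝐂[a]) (hf : e ∈ 𝐂[f]) (e1 : e ≠ 1) (e2 : e * e = 1) : e = z := by
  rcases h.za.mem.1 (h.inv e ⟨he.2, h.cz he.1⟩ e2) with rfl | rfl | rfl | rfl
  exacts [absurd rfl e1, rfl, absurd hf h.af, absurd ((mul_mem_cancel_left h.f4.t_mem).1 hf) h.af]

theorem sq_eq_z (hx : x ∈ T ⊓ 𝐂[a]) (x1 : x * x ≠ 1) (x2 : x * x * (x * x) = 1) : x * x = z :=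
  h.eq_z (mul_mem hx hx) (h.sq_mem_C hx.1) x1 x2

theorem sylB : Syl 2 (T ⊓ 𝐂[a]) (𝐂[z] ⊓ 𝐂[a]) :=
  syl_inf_cent1 (h.pn z h.f4.t1 h.f4.t2) (h.syl.mono h.cz le_top) h.aT

theorem false_of (hc : c ∈ T ⊓ 𝐂[a]) (hf : c ∈ 𝐂[f]) (e : c * c = z) : False := by
  have hB : Syl 2 (T ⊓ 𝐂[a]) 𝐂[a] := IsSylowIn.of_syl_norm inf_le_right
    (h.sylB.mono (le_inf inf_le_right (le_norm_self _)) fun g hg => ⟨mem_cent1_iff_conj.2 (by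
      have := h.sq_eq_z (conj_mem_of_norm hg.2 hc) (by rw [← cj_mul, e]; exact conj_ne_one.2 h.f4.t1)
        (by rw [← cj_mul, e]; exact conj_sq h.f4.t2 g)
      rwa [← cj_mul, e] at this), hg.1⟩)
  obtain ⟨g0, hg0⟩ := thompson h.perf h.syl inf_le_left h.idx h.a2
  obtain ⟨k, hk, hle⟩ := (cent1_conj g0 a ▸ hB.conj g0).exists_le_conj'
    (Q := T ⊓ 𝐂[g0 * a * g0⁻¹]) inf_le_right (h.syl.isPGroup.to_le inf_le_left)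
  obtain ⟨g, hg, hle⟩ : ∃ g, g * a * g⁻¹ ∈ T ⊓ 𝐂[f] ∧
      ∀ x ∈ T ⊓ 𝐂[g * a * g⁻¹], g⁻¹ * x * g⁻¹⁻¹ ∈ T ⊓ 𝐂[a] := by
    have e' : k * g0 * a * (k * g0)⁻¹ = g0 * a * g0⁻¹ := by rw [mul_cj, mem_cent1_iff_conj.1 hk]
    refine ⟨k * g0, e'.symm ▸ hg0, fun x hx => ?_⟩
    have := mem_conj.1 (mem_conj.1 (hle (e' ▸ hx)))
    rwa [show g0⁻¹ * (k⁻¹ * x * k) * g0 = (k * g0)⁻¹ * x * (k * g0)⁻¹⁻¹ by group] at this
  have hz := hle z ⟨h.zT, mem_cent1_comm.1 (h.cz hg.1)⟩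
  have hf' := hle f ⟨h.fT, mem_cent1_comm.1 hg.2⟩
  have h4 : S4 (g⁻¹ * z * g⁻¹⁻¹) (g⁻¹ * f * g⁻¹⁻¹) = S4 z a :=
    eq_of_le_of_card_le (S4_le.2 ⟨h.inv _ ⟨hz.2, h.cz hz.1⟩ (h.f4.conj g⁻¹).t2,
      h.inv _ ⟨hf'.2, h.cz hf'.1⟩ (h.f4.conj g⁻¹).e2⟩) (h.za.card.trans (h.f4.conj g⁻¹).card.symm).le
  have hc' : c ∈ 𝐂[g * a * g⁻¹] := by
    rcases (h.f4.conj g⁻¹).mem.1 (h4.symm ▸ s_mem_S4 z a) with e' | e' | e' | e'
    · exact absurd e' h.za.e1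
    · rw [e', show g * (g⁻¹ * z * g⁻¹⁻¹) * g⁻¹ = z by group]; exact h.cz hc.1
    · rw [e', show g * (g⁻¹ * f * g⁻¹⁻¹) * g⁻¹ = f by group]; exact hf
    · rw [e', show g * (g⁻¹ * z * g⁻¹⁻¹ * (g⁻¹ * f * g⁻¹⁻¹)) * g⁻¹ = z * f by group]
      exact (h.f4.cent_mul.ge ⟨h.cz hc.1, hf⟩).2
  have hgz : g ∈ 𝐂[z] := inv_mem_iff.1 (mem_cent1_iff_conj.2 (by
    have := h.sq_eq_z (hle c ⟨hc.1, hc'⟩) (by rw [← cj_mul, e]; exact conj_ne_one.2 h.f4.t1)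
      (by rw [← cj_mul, e]; exact conj_sq h.f4.t2 _)
    rwa [← cj_mul, e] at this))
  obtain ⟨k', hk', e'⟩ := exists_conj_syl (h.pn z h.f4.t1 h.f4.t2) (h.syl.mono h.cz le_top) hgz h.aT hg.1
  exact h.af (h.conj_mem_C hk' h.aT (e' ▸ hg.2))

theorem B_le : T ⊓ 𝐂[a] ≤ S4 z a := by
  have k : ∀ b ∈ T ⊓ 𝐂[a], b ∈ 𝐂[f] → b ∈ S4 z a := fun b hb hf => by
    by_contra hn
    obtain ⟨c, hc, c1, c2⟩ := exists_four h.syl.isPGroup hb.1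
      fun e => hn (h.inv b ⟨hb.2, h.cz hb.1⟩ e)
    exact h.false_of (zpowers_le.2 hb hc) (zpowers_le.2 hf hc) (h.sq_eq_z (zpowers_le.2 hb hc) c1 c2)
  intro b hb
  by_cases hf : b ∈ 𝐂[f]
  · exact k b hb hf
  · exact (mul_mem_cancel_right (s_mem_S4 z a)).1
      (k _ (mul_mem hb ⟨h.aT, mem_cent1_self a⟩) (h.mul_mem_C hb.1 h.aT hf h.af))

theorem fa : f * a * f⁻¹ = z * a := by
  have := h.conj_f h.aT h.af
  rw [inv_eq_of_mul_eq_one_right h.a2] at this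
  rw [inv_eq_of_mul_eq_one_right h.f4.e2]
  calc f * a * f = f * (a * f * a) * a := by rw [mul_assoc f (a * f * a), mul_assoc (a * f), h.a2]; group
    _ = z * a := by rw [this, ← mul_assoc f, ← h.f4.comm.eq, mul_assoc z, h.f4.e2, mul_one]

theorem main : T = S4 z f ⊔ zpowers a := by
  have hle : S4 z f ⊔ zpowers a ≤ T := sup_le h.nrm.1 (zpowers_le.2 h.aT)
  have hB : T ⊓ 𝐂[a] ≤ S4 z f ⊔ zpowers a := h.B_le.trans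
    (S4_le.2 ⟨mem_sup_left (t_mem_S4 z f), mem_sup_right (mem_zpowers a)⟩)
  refine (eq_of_nil_of_inf_norm_le h.syl.nil hle fun g hg => ?_).symm
  obtain ⟨x, hx, y, hy, e⟩ := (mem_sup_norm_left (zpowers_le.2 (h.nrm.2 h.aT))).1
    (conj_mem_of_norm hg.2 (mem_sup_right (mem_zpowers a)))
  have hC : S4 z f ≤ 𝐂[f] := h.f4.le_cent'
  rcases (mem_zp h.a2).1 hy with rfl | rfl
  · exact absurd (h.conj_mem_C hg.1 h.aT (e ▸ mul_mem (hC hx) (one_mem _))) h.af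
  have hxa : x ∈ 𝐂[y] := by
    have e2 : x * y * (x * y) = 1 := e ▸ conj_sq h.a2 g
    rw [mem_cent1, ← inv_eq_of_mul_eq_one_right e2, mul_inv_rev, inv_eq_of_mul_eq_one_right h.a2,
      inv_eq_of_mul_eq_one_right (h.f4.sq hx)]
  by_cases x1 : x = 1
  · exact hB ⟨hg.1, mem_cent1_iff_conj.2 (by rw [← e, x1, one_mul])⟩
  obtain rfl := h.eq_z ⟨h.nrm.1 hx, hxa⟩ (hC hx) x1 (h.f4.sq hx)
  refine (mul_mem_cancel_left (mem_sup_left (s_mem_S4 x f))).1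
    (hB ⟨mul_mem h.fT hg.1, mem_cent1_iff_conj.2 ?_⟩)
  rw [mul_cj, ← e, cj_mul, h.fa, mem_cent1_iff_conj.1 h.f4.e_mem, ← mul_assoc, h.f4.t2, one_mul]

end H

end Fu

theorem fus : FUS.{u} := fun _ _ _ _ _ _ _ h1 h2 h3 h4 h5 h6 h7 h8 h9 h10 =>
  Fu.H.main ⟨h1, h2, h3, h4, h5, h6, h7, h8, h9, h10⟩

end Cfsg.Agent.NS
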