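import Cfsg.Agent.Lib.GW2.D1
import Cfsg.Agent.Lib.CIT.Local
import Cfsg.Agent.Lib.SQ.Def

/-!
# Interfaces for the non-existence of simple groups satisfying `SQF.H2` (plan NS)
-/

set_option autoImplicit false

namespace Cfsg.Agent.NS

open Subgroup Cfsg.Agent.OO Cfsg.Agent.Coprime GW GW2
open scoped Pointwise

universe u

/-- centralizers of involutions are 2-nilpotent -/
def PN (G : Type u) [Group G] : Prop := ∀ t : G, t ≠ 1 → t * t = 1 → PNil 2 𝐂[t]

/-- there is an elementary abelian subgroup of order 8 -/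
def E8 (G : Type u) [Group G] : Prop := ∃ E : Subgroup G, IsEp 2 3 E ⊤

/-- some 2-subgroup contains non-commuting involutions -/
def NCI (G : Type u) [Group G] : Prop := ∃ T : Subgroup G, IsPGroup 2 T ∧ ∃ a ∈ T, ∃ b ∈ T,
  a * a = 1 ∧ b * b = 1 ∧ a * b ≠ b * a

section

variable {G : Type u} [Group G]

/-- the two local properties of a normal subgroup -/
structure Loc (L : Subgroup G) : Prop where
  normal : L ⊴ ⊤
  pn : ∀ s : G, s ≠ 1 → s * s = 1 → PNil 2 (L ⊓ 𝐂[s])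
  inv : ∀ x ∈ L, (orderOf x).Prime → orderOf x ≠ 2 → ∃ s ∈ 𝐂[x], s ≠ 1 ∧ s * s = 1

/-- the first configuration -/
structure Cf0 (L : Subgroup G) : Prop extends Loc L where
  odd : O L = ⊥
  two : ¬ IsPGroup 2 L

/-- the configuration -/
structure Cfg (L : Subgroup G) : Prop extends Loc L where
  smp : Smp L
  nab : ¬ Ab L

/-- the output of the signalizer functor method -/
structure SG (W : Subgroup G) : Prop where
  odd : Odd ♯W
  even : 2 ∣ ♯𝐍(W)
  mem : ∀ u ∈ 𝐍(W), u ≠ 1 → u * u = 1 → ∀ y ∈ 𝐂[u], Odd (orderOf y) → y ∈ W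
  se : ∀ u ∈ 𝐍(W), u ≠ 1 → u * u = 1 → ∀ g, g * u * g⁻¹ ∈ 𝐍(W) → g ∈ 𝐍(W)

end

/-- package RED1 -/
def RED1 : Prop := ∀ (G : Type u) [Group G] [Finite G], IsSimpleGroup G → ¬ IsMulCommutative G →
  SQF.H2 G → ∃ (H : Type u) (_ : Group H) (_ : Finite H) (L : Subgroup H), Cf0 L

/-- package RED2 -/
def RED2 : Prop := ∀ (G : Type u) [Group G] [Finite G] (K : Subgroup G), Cf0 K →
  ∃ L : Subgroup G, Cfg L

/-- package FUS -/
def FUS : Prop := ∀ (G : Type u) [Group G] [Finite G] (T : Subgroup G) (z f a : G), PN G →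
  der (⊤ : Subgroup G) = ⊤ → Syl 2 T ⊤ → F4 z f → S4 z f ⊴ T → T ≤ 𝐂[z] → a ∈ T → a * a = 1 →
  a ∉ 𝐂[f] → (∀ e ∈ 𝐂[a] ⊓ 𝐂[z], e * e = 1 → e ∈ S4 z a) → T = S4 z f ⊔ zpowers a

/-- package SIG -/
def SIG : Prop := ∀ (G : Type u) [Group G] [Finite G], IsSimpleGroup G → ¬ IsMulCommutative G →
  PN G → E8 G → ∃ W : Subgroup G, SG W

/-- package RK2 -/
def RK2 : Prop := ∀ (G : Type u) [Group G] [Finite G], IsSimpleGroup G → ¬ IsMulCommutative G →
  PN G → ¬ E8 G → DH G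

/-- package DIH -/
def DIH : Prop := ∀ (G : Type u) [Group G] [Finite G] (L : Subgroup G), Cfg L → ¬ DH L

/-- package K1 -/
def K1 : Prop := ∀ (G : Type u) [Group G] [Finite G], IsSimpleGroup G → ¬ IsMulCommutative G →
  CIT.IsCIT G → E8 G → NCI G →
  ¬ ∀ x : G, (orderOf x).Prime → orderOf x ≠ 2 → ∃ t : G, t * t = 1 ∧ t * x * t⁻¹ = x⁻¹

/-- package K2 -/
def K2 : Prop := ∀ (G : Type u) [Group G] [Finite G] (W : Subgroup G), IsSimpleGroup G →
  ¬ IsMulCommutative G → SG W → E8 G → NCI G → W = ⊥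

end Cfsg.Agent.NS
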