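import Cfsg.Agent.Lib.NS.Hyp
import Cfsg.Agent.Lib.CIT.Two
import Cfsg.Agent.Lib.BR.K1

/-!
# Package K1: `CIT`-groups in which all elements of odd prime order are strongly real
-/

set_option autoImplicit false

namespace Cfsg.Agent.NS

open Subgroup Cfsg.Agent.OO Cfsg.Agent.Coprime CIT BSW
open scoped Pointwise commutatorElement MatrixGroups

universe u

namespace Ka

variable {G : Type u} [Group G] [Finite G] {A D T M X : Subgroup G} {k v w x t : G} {q : ℕ}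

theorem index_core (N : Subgroup G) : N.normalCore.index ≤ N.index.factorial := by
  classical
  have := Fintype.ofFinite (G ⧸ N)
  rw [normalCore_eq_ker, index_ker, index, Nat.card_eq_fintype_card (α := G ⧸ N),
    ← Fintype.card_perm, ← Nat.card_eq_fintype_card]
  exact card_le_card_group _

theorem no15 (h : Su A D T q k w v) (hX : X ≤ 𝐍(D)) : ♯X ≠ 15 := fun e => by
  obtain ⟨S, t, p, -, -⟩ := h.l.ex
  have hD : ♯D = 16 := by rw [h.l.cfg.cardD, h.four.1]; rfl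
  have h1 : ♯(D ⊔ X) = 240 := by
    rw [← (IsSdprod.of_coprime hX (by rw [hD, e]; norm_num)).card, hD, e]
  have h2 : D ⊔ X ≤ 𝐍(D) := sup_le (le_norm_self D) hX
  have h3 := card_mul_relIndex h2
  rw [h1, h.card_D] at h3
  have h4 := index_core ((D ⊔ X).subgroupOf 𝐍(D))
  rw [show ((D ⊔ X).subgroupOf 𝐍(D)).index = 4 by change relIndex _ _ = 4; omega] at h4
  have h5 := normalIn_map_subtype ((D ⊔ X).subgroupOf 𝐍(D)).normalCore
  have h6 := card_mul_relIndex h5.le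
  rw [relIndex_map_subtype, h.card_D] at h6
  have h7 : ((D ⊔ X).subgroupOf 𝐍(D)).normalCore.map (𝐍(D)).subtype ≤ D ⊔ X :=
    (map_mono (normalCore_le _)).trans (by rw [subgroupOf_map_subtype]; exact inf_le_left)
  rcases p.le_or h5.norm with h8 | h8
  · have := card_le ((le_inf le_rfl h5.le).trans h8)
    rw [hD] at this
    have h9 : Nat.factorial 4 = 24 := rfl
    nlinarith
  · have := card_le (h8.trans (sup_le h7 le_sup_left))
    rw [h1, h.card_D] at this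
    omega

theorem eq_top (h : Su A D T q k w v) (hM : 𝐍(D) ≤ M) (hM' : 𝐍(A) ≤ M) :
    M = ⊤ := by_contra fun hne => by
  obtain ⟨z, hz, z1⟩ := h.l.exists_Z
  have z2 := h.l.cfg.sqA z hz.1
  have hT := h.l.T_le.trans hM
  have h1 : ∀ u ∈ M, u ≠ 1 → u * u = 1 → ∃ m ∈ M, u = m * z * m⁻¹ := fun u hu u1 u2 => by
    obtain ⟨g, hg, e⟩ := (h.l.syl.mono hT le_top).exists_conj_le (zpowers_le.2 hu)
      (isPGroup_of_sq fun x hx => by
        obtain ⟨i, rfl⟩ := hx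
        simp only [← (Commute.refl _).mul_zpow, u2, one_zpow])
    have key : ∀ m ∈ M, g * u * g⁻¹ = m * z * m⁻¹ → ∃ m ∈ M, u = m * z * m⁻¹ := fun m hm e =>
      ⟨_, mul_mem (inv_mem hg) hm, by rw [mul_inv_rev, mul_assoc, mul_assoc, ← mul_assoc z,
        ← mul_assoc m, ← mul_assoc m, ← e]; group⟩
    rcases h.l.cfg.mem_or (h.l.eq ▸ e (conj_mem_conj (mem_zpowers u))) (conj_mul_self u2) with e | e
    · obtain ⟨m, hm, e⟩ := h.r.trans hz.1 z1 e (BSW.conj_ne_one u1)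
      exact key m (hM' hm) e
    · obtain ⟨m, hm, e⟩ := h.l.trans hz.2 z1 e (BSW.conj_ne_one u1)
      exact key m (hM hm) e
  have hS : ZL.SE M := ⟨hne, orderOf_inv' z1 z2 ▸ orderOf_dvd_card (hT (h.l.le_l hz.1)), fun g hg e => by
    obtain ⟨x, hx, x1, x2⟩ := R1.exists_invol_mem e
    obtain ⟨m, hm, rfl⟩ := h1 x hx.1 x1 x2
    obtain ⟨n, hn, e⟩ := h1 _ (mem_conj.1 hx.2) (conj_ne_one'.2 x1)
      (by simpa using conj_mul_self (g := g⁻¹) x2)
    have := hT (h.l.cent_Z hz z1 ▸ mem_cent1_iff_conj.2 (show n⁻¹ * g⁻¹ * m * z * (n⁻¹ * g⁻¹ * m)⁻¹ = z by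
      calc _ = n⁻¹ * (g⁻¹ * (m * z * m⁻¹) * g) * n := by group
        _ = _ := by rw [e]; group))
    exact hg (inv_mem_iff.1 ((mul_mem_cancel_left (inv_mem hn)).1 ((mul_mem_cancel_right hm).1 this)))⟩
  obtain ⟨t, ht, t2⟩ := hS.exists_out
  have ho := hS.odd t ht
  have h2 : ♯𝐍(D) ≤ ♯(M ⊓ t •ᶜ M ⊓ 𝐍(D)) * ♯T := card_le_of_cover (↑) fun g hg => by
    have hd := conj_mem_of_norm hg hz.2
    obtain ⟨c, hc, -, e⟩ := hS.exists_conj ht t2 (hT (h.l.le_r hz.2)) (orderOf_inv' z1 z2)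
      (hT (h.l.le_r hd)) (orderOf_inv' (BSW.conj_ne_one z1) (conj_mul_self z2))
    exact ⟨⟨c, hc, h.l.ti hz.2 z1 (e ▸ hd)⟩, c⁻¹ * g, h.l.cent_Z hz z1 ▸ mem_cent1_iff_conj.2 (by
      calc _ = c⁻¹ * (g * z * g⁻¹) * c := by group
        _ = _ := by rw [← e]; group), by simp⟩
  have h3 := card_dvd (inf_le_right : M ⊓ t •ᶜ M ⊓ 𝐍(D) ≤ _)
  have h4 : ¬ 2 ∣ ♯(M ⊓ t •ᶜ M ⊓ 𝐍(D)) := fun e => ho (dvd_trans e (card_dvd inf_le_left))
  rw [h.card_D, ← h.l.eq, h.l.cfg.cardT, h.four.1] at h2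
  rw [h.card_D] at h3
  refine no15 h (inf_le_right : M ⊓ t •ᶜ M ⊓ 𝐍(D) ≤ _) ?_
  have := Nat.le_of_dvd (by decide) ((Nat.coprime_two_right.2 (Nat.odd_iff.2 (by omega))).pow_right 6
    |>.dvd_of_dvd_mul_left (n := 15) h3)
  omega

theorem card_par {S : Subgroup (Coset D)} {t : Coset D} (h : Par D S t) (hO : pCore 2 G = ⊥) :
    Nat.card G = 20160 := by
  obtain ⟨A, T, q, k, w, v, s⟩ := h.exists_su hO
  obtain ⟨z, hz, z1, h1, h2⟩ := s.exists_z'
  have h3 : A2 k z w v := ⟨s.h2 hz z1 h1, s.symm.h2 ⟨hz.2, hz.1⟩ z1 h2, s.braid⟩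
  have m : ∀ x ∈ ({k, z, w, v} : Set G), x ∈ closure ({k, z, w, v} : Set G) := subset_closure
  have h4 := s.le_M hz z1 (m k (by simp)) (m z (by simp)) (m w (by simp)) (m v (by simp))
  have h5 := eq_top s h4 (s.symm.le_M ⟨hz.2, hz.1⟩ z1 (m k (by simp)) (m z (by simp))
    (m v (by simp)) (m w (by simp)))
  have h6 := s.card_M h4 (m w (by simp)) h3.card_le
  rwa [h5, card_top] at h6

/-- Sylow counting for a real element generating a Sylow subgroup -/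
theorem count {p : ℕ} [hp : Fact p.Prime] (hx : orderOf x = p) (h2 : ¬ p * p ∣ Nat.card G)
    (ho : Odd ♯𝐂[x]) (t1 : t ≠ 1) (t2 : t * t = 1) (e : t * x * t⁻¹ = x⁻¹) :
    ∃ e n : ℕ, 2 ∣ e ∧ e ∣ p - 1 ∧ ♯𝐂[x] * e * n = Nat.card G ∧ n % p = 1 % p := by
  obtain ⟨k, h3, h4⟩ := BR.cardN_eq hx
  have h5 : Syl p (zpowers x) ⊤ := ⟨le_top, IsPGroup.of_card (n := 1) (by
    rw [Nat.card_zpowers, hx, pow_one]), fun h => h2 (by
      rw [← card_top, ← card_mul_relIndex (le_top (a := zpowers x)), Nat.card_zpowers, hx]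
      exact Nat.mul_dvd_mul_left p h)⟩
  obtain ⟨P, hP⟩ := h5.exists_sylow_top
  refine ⟨k, (𝐍(zpowers x)).index, ?_, h4, h3 ▸ card_mul_index _, ?_⟩
  · have : t ∈ 𝐍(zpowers x) := mem_norm_of_conj_mem fun y ⟨i, hi⟩ => by
      rw [← hi, ← conj_zpow, e]; exact zpow_mem (inv_mem (mem_zpowers x)) i
    have := orderOf_dvd_card this
    rw [orderOf_inv' t1 t2, h3] at this
    exact (Nat.coprime_two_left.2 ho).dvd_of_dvd_mul_left this
  · rw [← hP]
    exact P.card_eq_index_normalizer ▸ card_sylow_modEq_one p G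

theorem not_real (hC : IsCIT G) (hc : Nat.card G = 20160) (hx : orderOf x = 7) (t2 : t * t = 1) :
    t * x * t⁻¹ ≠ x⁻¹ := fun e => by
  have := Fact.mk (by norm_num : Nat.Prime 7)
  have := Fact.mk Nat.prime_five
  have odd : ∀ y : G, y ≠ 1 → Odd (orderOf y) → Odd ♯𝐂[y] := fun y y1 ho =>
    GW.odd_of_forall fun a ha a2 => GW.eq_one_of_odd_of_sq (hC.odd_cent y1 ho ha) a2
  have x1 : x ≠ 1 := by rintro rfl; simp at hx
  have xo : Odd (orderOf x) := by rw [hx]; decide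
  have t1 : t ≠ 1 := by
    rintro rfl
    exact x1 (GW.eq_one_of_odd_of_sq xo (by simpa [eq_inv_iff_mul_eq_one] using e))
  obtain ⟨a, n, h1, h2, h3, h4⟩ := count hx (by rw [hc]; decide) (odd x x1 xo) t1 t2 e
  obtain ⟨c, hc7⟩ : 7 ∣ ♯𝐂[x] := hx ▸ orderOf_dvd_card (mem_cent1_self x)
  have h5 := odd x x1 xo
  rw [hc7] at h5
  rw [hc7, hc] at h3
  have h6 : c ∣ 45 := ((Nat.coprime_two_right.2 (Nat.odd_mul.1 h5).2).pow_right 6).dvd_of_dvd_mul_left
    ⟨a * n, by nlinarith⟩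
  have h7 : c = 5 := by
    have h8 := Nat.le_of_dvd (by norm_num) h6
    have h9 := Nat.le_of_dvd (by norm_num) h2
    interval_cases a <;> simp at h1 h2 <;> interval_cases c <;> simp at h6 <;> omega
  subst h7
  obtain ⟨y, hy, y5⟩ := cauchy Nat.prime_five (H := 𝐂[x]) (by rw [hc7]; decide)
  have y1 : y ≠ 1 := by rintro rfl; simp at y5
  have yo : Odd (orderOf y) := by rw [y5]; decide
  have e' := hC.inv_cent x1 xo t1 t2 e hy
  have key : ∀ {u v : G}, u ≠ 1 → Odd (orderOf u) → t * u * t⁻¹ = u⁻¹ → v ∈ 𝐂[u] → 𝐂[u] ≤ 𝐂[v] :=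
    fun {u v} u1 uo eu hv g hg => mem_cent1.2 (inv_injective (by
      rw [← hC.inv_cent u1 uo t1 t2 eu (mul_mem hg hv), mul_inv_rev, ← hC.inv_cent u1 uo t1 t2 eu hg,
        ← hC.inv_cent u1 uo t1 t2 eu hv, conj_mul]))
  have h8 : 𝐂[y] = 𝐂[x] := le_antisymm (key y1 yo e' (mem_cent1_comm.1 hy)) (key x1 xo e hy)
  obtain ⟨b, m, k1, k2, k3, k4⟩ := count y5 (by rw [hc]; decide) (odd y y1 yo) t1 t2 e'
  rw [h8, hc7, hc] at k3
  have k5 := Nat.le_of_dvd (by norm_num) k2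
  interval_cases b <;> simp at k1 k2 <;> omega

theorem not_zt (h : NCI G) : ¬ IsZT G := fun ⟨H, t, hH⟩ => by
  have := Fact.mk Nat.prime_two
  obtain ⟨T, hT, a, ha, b, hb, a2, -, ne⟩ := h
  obtain ⟨g, -, e⟩ := (hyp_syl hH).exists_conj_le le_top hT
  have := hH.comm (e (conj_mem_conj ha)) (conj_mul_self a2) (e (conj_mem_conj hb))
  rw [conj_mul, conj_mul] at this
  exact ne (by simpa using this.symm)

theorem not_e8 {F : Type} [Field F] [Fintype F] (h2 : (2 : F) ≠ 0) : ¬ E8 PSL(2, F) := fun ⟨E, hE⟩ => by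
  have := Fact.mk Nat.prime_two
  have sq : ∀ a ∈ E, a * a = 1 := fun a ha => by simpa [_root_.sq] using hE.abelem.2 a ha
  obtain ⟨u, hu, u1⟩ := exists_mem_ne_one (hE.ne_bot (by norm_num))
  obtain ⟨K, hK, hu', -, -, h⟩ := cent_inv h2 u1 (sq u hu)
  have hc : E ≤ 𝐂[u] := fun a ha => mem_cent1.2 (ab_iff.1 hE.ab a ha u hu)
  obtain ⟨n, k⟩ := exists_isEp_of_abelem (abelem_of_le hE.abelem (inf_le_right : K ⊓ E ≤ E)) le_rfl
  have h1 : n ≤ 1 := by
    by_contra! e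
    exact k.not_isCyclic e (isCyclic_of_le' hK inf_le_left)
  have h3 : K.relIndex E ≤ 2 := by
    by_cases e : E ≤ K
    · rw [relIndex_eq_one.2 e]; omega
    obtain ⟨a, ha, ha'⟩ := SetLike.not_le_iff_exists.1 e
    refine (index_eq_two_iff.2 ⟨⟨a, ha⟩, fun b => ?_⟩).le
    simp only [mem_subgroupOf, coe_mul]
    by_cases hb : (b : PSL(2, F)) ∈ K
    · exact Or.inr ⟨hb, fun e' => ha' ((mul_mem_cancel_left hb).1 e')⟩
    · exact Or.inl ⟨h b (hc b.2) a (hc ha) hb ha', hb⟩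
  have h4 := card_inf_mul_relIndex K E
  rw [k.card, hE.card] at h4
  interval_cases n <;> omega

theorem not_fm (h : E8 G) : ¬ IsFM G := fun ⟨F, _, _, h5, h9, ⟨e⟩⟩ => by
  obtain ⟨E, hE⟩ := h
  refine not_e8 (F := F) (fun h2 => ?_) ⟨_, (hE.map_of_injective (f := e.toMonoidHom) e.injective).top⟩
  have h3 : ringChar F = 2 := ringChar.eq_iff.2 (CharTwo.of_one_ne_zero_of_two_eq_zero one_ne_zero h2)
  have := FiniteField.even_card_iff_char_two.1 h3
  rcases h9 with h9 | ⟨h9, -⟩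
  · omega
  · have := h9.eq_two_or_odd; omega

end Ka

theorem k1 : K1.{u} := fun G _ _ hs hn hC h8 hN hr => by
  have := Fact.mk Nat.prime_two
  have hns : ¬ Group.IsSolvable G := fun h => hn ⟨⟨IsSimpleGroup.comm_iff_isSolvable.2 h⟩⟩
  have hO : pCore 2 G = ⊥ := (hs.eq_bot_or_eq_top_of_normal _ inferInstance).resolve_right fun e =>
    hns (sol_top (e ▸ Op_top (G := G) 2 ▸ sol_of_isPGroup (Op_isPGroup 2 _)))
  rcases hC.cases hns hO with h | h | ⟨N, h1, h2, -⟩ | ⟨D, S, t, h⟩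
  · exact Ka.not_zt hN h
  · exact Ka.not_fm h8 h
  · rcases hs.eq_bot_or_eq_top_of_normal N h1 with rfl | rfl
    · obtain ⟨E, hE⟩ := h8
      have := card_le hE.le
      rw [hE.card, card_top, ← index_bot, h2] at this
      omega
    · simp at h2
  have hc := Ka.card_par h hO
  obtain ⟨x, -, hx⟩ := cauchy (by norm_num : Nat.Prime 7) (H := (⊤ : Subgroup G))
    (by rw [card_top, hc]; decide)
  obtain ⟨t, t2, e⟩ := hr x (by rw [hx]; norm_num) (by rw [hx]; norm_num)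
  exact Ka.not_real hC hc hx t2 e

end Cfsg.Agent.NS
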