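import Cfsg.Agent.Lib.NS.R3
import Cfsg.Agent.Lib.CIT.Two

/-!
# The strongly embedded case
-/

set_option autoImplicit false

namespace Cfsg.Agent.NS

open Subgroup Cfsg.Agent.OO Cfsg.Agent.Coprime GW GW2 CIT
open scoped Pointwise MatrixGroups

universe u

namespace Kb

variable {G : Type u} [Group G] [Finite G] {A D E T W X : Subgroup G} {k v w z : G} {q : ℕ}

theorem card_dvd_factorial [IsSimpleGroup G] (hX : X ≠ ⊤) : Nat.card G ∣ X.index.factorial := by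
  classical
  have h0 : X.normalCore = ⊥ := (X.normalCore_normal.eq_bot_or_eq_top).resolve_right fun e =>
    hX (eq_top_iff.2 (e ▸ X.normalCore_le))
  rw [normalCore_eq_ker] at h0
  have := Fintype.ofFinite (G ⧸ X)
  have := card_dvd_of_injective _ ((MonoidHom.ker_eq_bot_iff _).1 h0)
  rwa [Nat.card_perm] at this

theorem p15 (h : Su A D T q k w v) (hz : z ∈ A ⊓ D) (z1 : z ≠ 1) (ho : Odd ♯X)
    (tr : ∀ g ∈ 𝐍(D), ∃ c ∈ X, c * z * c⁻¹ = g * z * g⁻¹) : False := by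
  have h2 : ♯𝐍(D) ≤ ♯(X ⊓ 𝐍(D)) * ♯T := card_le_of_cover (↑) fun g hg => by
    obtain ⟨c, hc, e⟩ := tr g hg
    exact ⟨⟨c, hc, h.l.ti hz.2 z1 (e ▸ conj_mem_of_norm hg hz.2)⟩, c⁻¹ * g,
      h.l.cent_Z hz z1 ▸ mem_cent1_iff_conj.2 (by
        calc _ = c⁻¹ * (g * z * g⁻¹) * c := by group
          _ = _ := by rw [← e]; group), by simp⟩
  rw [h.card_D, ← h.l.eq, h.l.cfg.cardT, h.four.1] at h2
  obtain ⟨S, t, hp, -⟩ := h.l.ex
  have := hp.hyp.isSimpleGroup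
  have h3 := card_mul_card_quo (⟨le_norm_self D, le_rfl⟩ : D ⊴ 𝐍(D))
  rw [h.card_D, h.l.cfg.cardD, h.four.1, quo_norm, card_top] at h3
  have h4 := odd_of_le ho (inf_le_left : X ⊓ 𝐍(D) ≤ X)
  have h5 := card_quo_of_coprime (inf_le_right : X ⊓ 𝐍(D) ≤ 𝐍(D)) (by
    rw [h.l.cfg.cardD, h.four.1]; exact (Nat.coprime_two_left.2 h4).pow_left 4)
  have h6 := ((X ⊓ 𝐍(D)) ⁒ D).index_mul_card
  have h7 := card_dvd_factorial (X := (X ⊓ 𝐍(D)) ⁒ D) fun e => by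
    rw [← h5, e, card_top, Nat.odd_iff] at h4; omega
  have h8 : ((X ⊓ 𝐍(D)) ⁒ D).index ≤ 4 := by nlinarith
  have := Nat.le_of_dvd (by decide) (h7.trans (Nat.factorial_dvd_factorial h8))
  simp only [Nat.factorial] at this
  omega

omit [Finite G] in
theorem not_psl {F : Type} [Field F] [Fintype F] (ho : Odd (Fintype.card F)) (e : G ≃* PSL(2, F)) :
    ¬ E8 G := fun ⟨E, hE⟩ => by
  have h1 := hE.map_of_injective (f := e.toMonoidHom) e.injective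
  generalize E.map e.toMonoidHom = B at h1
  have h2 : (2 : F) ≠ 0 := S4357.two_ne_zero' ho
  obtain ⟨u, hu, u1⟩ := exists_mem_ne_one (h1.ne_bot three_ne_zero)
  have sq : ∀ a ∈ B, a * a = 1 := fun a ha => (sq a).symm.trans (h1.abelem.2 a ha)
  obtain ⟨K, hK, -, -, -, h3⟩ := cent_inv h2 u1 (sq u hu)
  have h4 : B ≤ 𝐂[u] := cent_zpowers u ▸ h1.le_cent.trans (cent_anti (zpowers_le.2 hu))
  have h5 : ♯(K ⊓ B) ∣ 2 := by
    have := isCyclic_of_le' hK (inf_le_left : K ⊓ B ≤ K)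
    rw [← IsCyclic.exponent_eq_card]
    exact Monoid.exponent_dvd_of_forall_pow_eq_one fun g => Subtype.ext (h1.abelem.2 g g.2.2)
  have h6 := card_inf_mul_relIndex K B
  have h7 : K.relIndex B ≤ 2 := by
    by_cases h : B ≤ K
    · rw [relIndex_eq_one.2 h]; omega
    obtain ⟨a, ha, ha'⟩ := SetLike.not_le_iff_exists.1 h
    refine (index_eq_two_iff.2 ⟨⟨a, ha⟩, fun b => ?_⟩).le
    by_cases hb : b.1 ∈ K
    · exact Or.inr ⟨hb, fun e => ha' ((mul_mem_cancel_left hb).1 e)⟩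
    · exact Or.inl ⟨h3 _ (h4 b.2) _ (h4 ha) hb ha', hb⟩
  have := Nat.le_of_dvd two_pos h5
  rw [h1.card] at h6
  nlinarith

theorem exists_f4 (h : IsEp 2 3 E X) : ∃ a ∈ E, ∃ b ∈ E, F4 a b := by
  have sq : ∀ a ∈ E, a * a = 1 := fun a ha => (sq a).symm.trans (h.abelem.2 a ha)
  obtain ⟨a, ha, a1⟩ := exists_mem_ne_one (h.ne_bot three_ne_zero)
  obtain ⟨b, hb, h1⟩ := SetLike.not_le_iff_exists.1 fun e : E ≤ zpowers a => by
    have := card_le e
    rw [h.card, Nat.card_zpowers, orderOf_eq_two (sq a ha) a1] at this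
    omega
  exact ⟨a, ha, b, hb, a1, fun e => h1 (e ▸ one_mem _), fun e => h1 (e ▸ mem_zpowers _), sq a ha,
    sq b hb, ab_iff.1 h.ab a ha b hb⟩

theorem core (hC : IsCIT G) (h8 : E8 G) (hN : NCI G) (ho : Odd ♯X)
    (tr : ∀ a b : G, a ≠ 1 → a * a = 1 → b ≠ 1 → b * b = 1 → ∃ c ∈ X, c * a * c⁻¹ = b) : False := by
  obtain ⟨P, hP, a, ha, b, hb, a2, b2, hne⟩ := hN
  have a1 : a ≠ 1 := fun e => hne (by simp [e])
  have b1 : b ≠ 1 := fun e => hne (by simp [e])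
  have hO : pCore 2 G = ⊥ := by_contra fun e => by
    obtain ⟨z, hz, z1, z2, hc⟩ := exists_central (Core.isPGroup_pCore 2) e
    obtain ⟨c, -, rfl⟩ := tr z a z1 z2 a1 a2
    obtain ⟨d, -, rfl⟩ := tr z b z1 z2 b1 b2
    have h1 : c⁻¹ * (d * z * d⁻¹) * c⁻¹⁻¹ ∈ pCore 2 G :=
      Normal.conj_mem inferInstance _ (Normal.conj_mem inferInstance _ hz d) _
    have := mem_cent1.1 (hc h1)
    exact hne (by
      calc _ = c * (z * (c⁻¹ * (d * z * d⁻¹) * c⁻¹⁻¹)) * c⁻¹ := by group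
        _ = _ := by rw [← this]; group)
  obtain ⟨E, hE⟩ := id h8
  obtain ⟨t, -, s, -, p⟩ := exists_f4 hE
  have k : ∀ u : G, u ≠ 1 → u * u = 1 → O (⊤ : Subgroup G) ⊓ 𝐂[u] ≤ ⊥ := fun u u1 u2 y hy =>
    hC u y u1 u2 (mem_cent1.1 hy.2) (odd_of_mem (odd_O _) hy.1)
  have hns : ¬ Group.IsSolvable G := fun _ => Fit_ne_bot (H := (⊤ : Subgroup G)) inferInstance
    (fun e => a1 (mem_bot.1 (e ▸ mem_top a))) (by
      rw [Fit_eq_Op (eq_bot_iff.2 (p.le_of_forall (le_top.trans (Opi_normal _ _).2) (odd_O _)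
        (k t p.t1 p.t2) (k s p.e1 p.e2) (k _ p.mul_ne_one p.mul_sq))), Op_top, hO])
  rcases hC.cases hns hO with ⟨S, u, h⟩ | ⟨F, _, _, h5, h, ⟨e⟩⟩ | ⟨N, hn, hi, F, _, _, h, ⟨e⟩⟩ |
    ⟨D, S, u, h⟩
  · obtain ⟨g, -, hg⟩ := (hyp_syl h).exists_conj_le le_top hP
    have := h.comm (hg (conj_mem_conj ha)) (conj_sq a2 g) (hg (conj_mem_conj hb))
    rw [← cj_mul, ← cj_mul, cj_inj] at this
    exact hne this.symm
  · refine not_psl ?_ e h8
    rcases h with h | ⟨h, -⟩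
    · rw [h]; decide
    · exact h.odd_of_ne_two (by omega)
  · obtain ⟨z, hz, z1⟩ := exists_mem_ne_one (H := N ⊓ E) fun e => by
      have := card_inf_mul_relIndex N E
      have h1 := Nat.le_of_dvd two_pos (hi ▸ relIndex_dvd_index_of_normal N E)
      rw [e, card_bot, hE.card] at this
      omega
    have h1 : E ≤ N := fun y hy => by
      by_cases y1 : y = 1
      · exact y1 ▸ one_mem N
      obtain ⟨c, -, rfl⟩ := tr z y z1 ((sq z).symm.trans (hE.abelem.2 z hz.2)) y1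
        ((sq y).symm.trans (hE.abelem.2 y hy))
      exact hn.conj_mem z hz.1 c
    refine not_psl (by rw [h]; decide) e ⟨E.subgroupOf N, le_top, ⟨?_, fun y hy =>
      Subtype.ext (hE.abelem.2 y hy)⟩, by rw [Core.card_subgroupOf_of_le h1, hE.card]⟩
    exact ab_iff.2 fun x hx y hy => Subtype.ext (ab_iff.1 hE.ab x hx y hy)
  · obtain ⟨A, T, q, k, w, v, s⟩ := h.exists_su hO
    obtain ⟨z, hz, z1⟩ := s.l.exists_Z
    have z2 := s.l.cfg.sqA z hz.1
    exact p15 s hz z1 ho fun g _ => tr z _ z1 z2 (conj_ne_one.2 z1) (conj_sq z2 g)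

end Kb

theorem k2 : K2.{u} := fun G _ _ W hs hn h h8 hN => by_contra fun h0 => by
  have hS := h.se' fun hM => h.odd.not_two_dvd_nat (by
    have := h.even; rwa [hM, ← (smp_top W ⟨le_top, hM.ge⟩).resolve_left h0] at this)
  obtain ⟨S, hT⟩ := exists_syl 2 𝐍(W)
  have hT' := hS.syl hT
  have lift : ∀ a : Coset W, a * a = 1 → ∃ x ∈ 𝐍(W), x * x = 1 ∧ coset W x = a := fun a a2 => by
    obtain ⟨g, -, hg⟩ := (quo_norm W ▸ hT.quo le_rfl).exists_conj_le le_top (ZG.two_elt a2)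
    obtain ⟨n, hn, rfl⟩ := exists_coset W g
    obtain ⟨x, hx, e⟩ := (mem_quo_of_le hT.le).1 (hg (conj_mem_conj (mem_zpowers a)))
    have x2 : x * x = 1 := eq_one_of_two hT.isPGroup (mul_mem hx hx) (odd_of_mem h.odd
      ((coset_eq_one_iff (hT.le (mul_mem hx hx))).1 (by
        rw [coset_mul (hT.le hx) (hT.le hx), e, conj_sq a2])))
    exact ⟨_, mul_mem (mul_mem (inv_mem hn) (hT.le hx)) (inv_mem (inv_mem hn)), conj_sq x2 n⁻¹, by
      rw [coset_conj (inv_mem hn) (hT.le hx), e, coset_inv]; group⟩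
  obtain ⟨w, hw, w2⟩ := hS.exists_out
  refine Kb.core (G := Coset W) (X := (𝐍(W) ⊓ w •ᶜ 𝐍(W)) ⁒ W) (fun t x t1 t2 e ho => ?_) ?_ ?_
    (odd_quo (Nat.odd_iff.2 (Nat.two_dvd_ne_zero.1 (hS.odd w hw))) W) fun a b a1 a2 b1 b2 => ?_
  · obtain ⟨t, ht, t3, rfl⟩ := lift t t2
    have h1 : x ∈ (𝐍(W) ⊓ 𝐂[t]) ⁒ W := by
      rw [quo_inf_cent1 (le_norm_self W) ht (Nat.card_zpowers t ▸ coprime_zp h.odd t3), quo_norm]
      exact ⟨trivial, mem_cent1.2 e⟩
    obtain ⟨y, hy, -, h2, rfl⟩ := exists_piElt_coset_eq h1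
      ((isPiNum_compl_singleton Nat.prime_two).2 ho.not_two_dvd_nat)
    exact coset_eq_one (h.mem t ht (fun e => t1 (e ▸ coset_one W)) t3 y hy.2
      (Nat.odd_iff.2 (Nat.two_dvd_ne_zero.1 ((isPiNum_compl_singleton Nat.prime_two).1 h2))))
  · obtain ⟨E, hE⟩ := h8
    obtain ⟨g, -, hg⟩ := hT'.exists_conj_le le_top hE.isPGroup
    have h1 := hE.conj g
    exact ⟨_, (h1.quo (hg.trans hT.le) (inf_eq_bot_of_coprime_card (by
      rw [h1.card]; exact (Nat.coprime_two_right.2 h.odd).pow_right 3))).top⟩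
  · obtain ⟨P, hP, a, ha, b, hb, a2, b2, hne⟩ := hN
    obtain ⟨g, -, hg⟩ := hT'.exists_conj_le le_top hP
    have ha' := hg (conj_mem_conj (g := g) ha)
    have hb' := hg (conj_mem_conj (g := g) hb)
    refine ⟨S ⁒ W, (hT.quo le_rfl).isPGroup, _, coset_mem_quo W ha', _, coset_mem_quo W hb', ?_, ?_,
      fun e => hne ?_⟩
    · rw [← coset_mul (hT.le ha') (hT.le ha'), conj_sq a2, coset_one]
    · rw [← coset_mul (hT.le hb') (hT.le hb'), conj_sq b2, coset_one]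
    have h1 := eq_one_of_two hT.isPGroup (mul_mem (mul_mem (mul_mem ha' hb') (inv_mem ha')) (inv_mem hb'))
      (odd_of_mem h.odd ((coset_commute_iff (hT.le ha') (hT.le hb')).1 e))
    rwa [← commutatorElement_def, commutatorElement_eq_one_iff_mul_comm, ← cj_mul, ← cj_mul,
      cj_inj] at h1
  · obtain ⟨a, ha, a3, rfl⟩ := lift a a2
    obtain ⟨b, hb, b3, rfl⟩ := lift b b2
    obtain ⟨c, hc, -, e⟩ := hS.exists_conj hw w2 ha (orderOf_eq_two a3 fun e => a1 (e ▸ coset_one W))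
      hb (orderOf_eq_two b3 fun e => b1 (e ▸ coset_one W))
    exact ⟨_, coset_mem_quo W hc, by rw [← coset_conj hc.1 ha, e]⟩

end Cfsg.Agent.NS
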