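import Cfsg.Agent.Lib.NS.Hyp
import Cfsg.Agent.Lib.R4.USyl
import Cfsg.Agent.Lib.R4.RK2c
import Cfsg.Agent.Lib.CS2.Sec
import Cfsg.Agent.Lib.W0.Main
import Cfsg.Agent.Lib.CIT.Dih

/-!
# Package RK2: simple groups of 2-rank two with 2-nilpotent centralizers of involutions
-/

set_option autoImplicit false

namespace Cfsg.Agent.NS

open Subgroup Cfsg.Agent.OO Cfsg.Agent.Coprime GW GW2
open scoped Pointwise commutatorElement

universe u

namespace Rk

variable {G : Type u} [Group G] [Finite G] {A H S : Subgroup G} {a e f g t u z : G}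

theorem conj_in (h : PNil 2 H) (hS : Syl 2 S H) (hg : g ∈ H) (hu : u ∈ S) (e : g * u * g⁻¹ ∈ S) :
    ∃ t ∈ S, g * u * g⁻¹ = t * u * t⁻¹ := by
  have := Fact.mk Nat.prime_two
  have d := h.sdprod hS
  obtain ⟨k, hk, t, ht, rfl⟩ := d.mem_iff.1 hg
  refine ⟨t, ht, ?_⟩
  have h1 : t * u * t⁻¹ ∈ S := mul_mem (mul_mem ht hu) (inv_mem ht)
  have h2 : k * t * u * (k * t)⁻¹ * (t * u * t⁻¹)⁻¹ ∈ Op' 2 H ⊓ S := ⟨by
    rw [show k * t * u * (k * t)⁻¹ * (t * u * t⁻¹)⁻¹ =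
      k * ((t * u * t⁻¹) * k⁻¹ * (t * u * t⁻¹)⁻¹) by group]
    exact mul_mem hk (d.normal.conj_mem (d.right_le h1) (inv_mem hk)), S.mul_mem e (S.inv_mem h1)⟩
  rwa [d.inf_eq, mem_bot, mul_inv_eq_one] at h2

theorem not_iso [IsSimpleGroup G] (hn : ¬ IsMulCommutative G) (hS : Syl 2 S ⊤) (ha : a ∈ S)
    (a1 : a ≠ 1) (a2 : a * a = 1) : ¬ ∀ g : G, g * a * g⁻¹ ∈ S → g * a * g⁻¹ = a := fun k1 => by
  have := Fact.mk Nat.prime_two
  have h1 := R1.zstar G a a2 fun g hg => by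
    obtain ⟨k, -, hk⟩ := hS.exists_conj_le le_top (isPGroup_sup (R4.two_elt a2)
      (R4.two_elt (W0.conj_sq a2 g)) (Or.inl (le_norm_of_le_cent (by
        rw [cent_zpowers, zpowers_le]; exact mem_cent1.2 hg))))
    have h2 := k1 k (hk (conj_mem_conj (mem_sup_left (mem_zpowers a))))
    have h3 := k1 (k * g) (by
      simpa [mul_assoc] using hk (conj_mem_conj (mem_sup_right (mem_zpowers _))))
    calc _ = k⁻¹ * (k * g * a * (k * g)⁻¹) * k := by group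
      _ = k⁻¹ * (k * a * k⁻¹) * k := by rw [h3, h2]
      _ = a := by group
  have h0 : pPrimeCore 2 G = ⊥ :=
    (IsSimpleGroup.eq_bot_or_eq_top_of_normal _ inferInstance).resolve_right fun e =>
      Core.not_dvd_card_pPrimeCore (p := 2) (G := G) (by
        rw [e, ← orderOf_eq_prime ((pow_two a).trans a2) a1]; exact orderOf_dvd_card (mem_top a))
  have hc : a ∈ center G := mem_center_iff.2 fun g => by
    have := h1 g
    rw [h0, mem_bot, mul_inv_eq_one, mul_inv_eq_iff_eq_mul] at this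
    exact this
  rcases IsSimpleGroup.eq_bot_or_eq_top_of_normal (center G) inferInstance with e | e
  · exact a1 (mem_bot.1 (e ▸ hc))
  · exact hn ⟨⟨fun x y => mem_center_iff.1 (e.ge (mem_top y)) x⟩⟩

theorem res [IsSimpleGroup G] (hn : ¬ IsMulCommutative G) : pResidual 2 G = ⊤ := by
  have := Fact.mk Nat.prime_two
  refine (IsSimpleGroup.eq_bot_or_eq_top_of_normal _ inferInstance).resolve_left fun e => hn ?_
  have h := (Transfer.isPGroup_iff_pResidual_eq_bot.2 e).isNilpotent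
  exact IsSimpleGroup.comm_iff_isSolvable.2 inferInstance |> fun c => ⟨⟨c⟩⟩

omit [Finite G] in
theorem perf [IsSimpleGroup G] (hn : ¬ IsMulCommutative G) : der (⊤ : Subgroup G) = ⊤ :=
  (IsSimpleGroup.eq_bot_or_eq_top_of_normal _ (normalIn_top.1 (der_normal ⊤))).resolve_left fun e' =>
    hn ⟨⟨fun x y => ab_iff.1 (ab_iff_der.2 e') x (mem_top x) y (mem_top y)⟩⟩

theorem isEp (h : F4 z a) : IsEp 2 2 (S4 z a) ⊤ := h.pair.isEp.top

theorem mem_four (h8 : ¬ E8 G) (h : F4 z a) (h1 : e ∈ 𝐂[z]) (h2 : e ∈ 𝐂[a]) (e2 : e * e = 1) :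
    e ∈ S4 z a := by
  have := Fact.mk Nat.prime_two
  by_contra hn
  have e1 : e ≠ 1 := fun h => hn (h ▸ one_mem _)
  exact h8 ⟨_, (isEp h).sup_one (isEp_zpowers (mem_top e) (orderOf_eq_two e2 e1))
    (by rw [cent_S4, zpowers_le]; exact ⟨h1, h2⟩) fun h => hn (h (mem_zpowers e))⟩

theorem dh_of_cf {s : G} (h : Cf ⊤ a s t) : DH G :=
  CS2.dh_of_syl h.syl (fun x hx n => h.sq_of_not_mem hx n) fun x hx y hy n n' => by
    obtain ⟨v, hv, rfl⟩ := h.out hx n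
    obtain ⟨w, hw, rfl⟩ := h.out hy n'
    rw [show v * s * (w * s) = v * (s * w * s⁻¹) * (s * s) by group, h.s2, h.inv' hw, mul_one]
    exact mul_mem hv (inv_mem hw)

/-- the semidihedral case is excluded by transfer -/
theorem inverts_of_dqs (hC : PN G) (hG : pResidual 2 G = ⊤) (hS : Syl 2 S ⊤) {n : ℕ} {x y s : S}
    (h : PGrp.IsDQS n x y) (hs : s ∉ zpowers x) (s2 : s * s = 1) : s * x * s⁻¹ = x⁻¹ := by
  have := Fact.mk Nat.prime_two
  by_contra hne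
  obtain ⟨k, hk1, -, hk⟩ := h.exists_conj'
  obtain ⟨m, rfl⟩ := Nat.exists_eq_add_of_le' h.1
  have ho := h.2.2.1
  have hz : ∀ u ∈ zpowers x, u ≠ 1 → u * u = 1 → u = x ^ 2 ^ (m + 1) := fun u =>
    CIT.eq_of_mem_zpowers ho
  have hZ := h.center_eq
  have hM : ∀ u : S, u * u = 1 → u ∈ zpowers s ⊔ frattini S := fun u u2 => by
    rw [h.frattini_eq]
    by_cases hu : u ∈ zpowers x
    · by_cases u1 : u = 1
      · exact u1 ▸ one_mem _
      · rw [hz u hu u1 u2, pow_succ' 2 m, pow_mul]; exact mem_sup_right (npow_mem_zpowers _ _)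
    obtain ⟨i, hi⟩ := h.mul_inv_mem hu hs
    simp only at hi
    rw [eq_mul_inv_iff_mul_eq] at hi
    subst hi
    refine mul_mem (mem_sup_right ?_) (mem_sup_left (mem_zpowers s))
    rcases Int.even_or_odd' i with ⟨j, rfl | rfl⟩
    · exact ⟨j, by simp [zpow_mul]⟩
    refine absurd ?_ hne
    have h1 : x ^ (2 * j + 1) * (s * x ^ (2 * j + 1) * s⁻¹) = 1 := by
      rw [BSW.inv_eq_of_mul_self s2, ← u2]; group
    rw [hk s hs, ← zpow_add, ← orderOf_dvd_iff_zpow_eq_one, ho,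
      show 2 * j + 1 + k * (2 * j + 1) = (k + 1) * (2 * j + 1) by ring] at h1
    have h2 := IsCoprime.dvd_of_dvd_mul_right (IsCoprime.pow_left (m := m + 2)
      (⟨-j, 1, by ring⟩ : IsCoprime (2 : ℤ) (2 * j + 1))) (by exact_mod_cast h1)
    have h3 := hk s hs 1
    rw [zpow_one, mul_one] at h3
    rw [h3, eq_inv_iff_mul_eq_one, ← zpow_add_one, ← orderOf_dvd_iff_zpow_eq_one, ho]
    exact_mod_cast h2
  have hsq : ∀ u : S, u * u ≠ 1 → u * u * (u * u) = 1 → u * u = x ^ 2 ^ (m + 1) := fun u h1 h2 =>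
    hz _ (by rw [← sq]; exact sq_mem_of_index_two h.index u) h1 h2
  have z1 : x ^ 2 ^ (m + 1) ≠ 1 := pow_ne_one_of_lt_orderOf (by positivity)
    (ho ▸ Nat.pow_lt_pow_right one_lt_two (Nat.lt_succ_self _))
  have z2 : x ^ 2 ^ (m + 1) * x ^ 2 ^ (m + 1) = 1 := by
    rw [← pow_add, ← two_mul, ← pow_succ', ← ho, pow_orderOf_eq_one]
  have hc : S ≤ 𝐂[((x ^ 2 ^ (m + 1) : S) : G)] := fun g hg => mem_cent1.2 (congrArg Subtype.val
      (mem_center_iff.1 (hZ ▸ mem_zpowers _) ⟨g, hg⟩))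
  have hp := hC _ (fun e => z1 (Subtype.ext e)) (congrArg Subtype.val z2)
  have hS' := hS.mono hc le_top
  obtain ⟨P, rfl⟩ := hS.exists_sylow_top
  have := Transfer.sylow_inf_pResidual_le_of_fusion P
    (M := (zpowers s ⊔ frattini P).map (P : Subgroup G).subtype) fun u hu g _ hg => by
      by_cases u2 : u * u = 1
      · exact mul_mem (inv_mem ⟨⟨u, hu.1⟩, hM _ (Subtype.ext u2), rfl⟩)
          ⟨⟨_, hg⟩, hM _ (Subtype.ext (BSW.conj_mul_self u2)), rfl⟩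
      obtain ⟨j, hj⟩ := CIT.exists_pow_of_mem P.isPGroup' (mul_mem hu.1 hu.1)
      obtain ⟨j, h1, h2⟩ := CIT.exists_inv_pow u2 hj
      rw [(Commute.refl u).mul_pow] at h1 h2
      have h3 := hsq ⟨_, pow_mem hu.1 (2 ^ j)⟩ (fun e => h1 (congrArg Subtype.val e)) (Subtype.ext h2)
      have h5 : (g * u * g⁻¹) ^ 2 ^ j * (g * u * g⁻¹) ^ 2 ^ j = g * (u ^ 2 ^ j * u ^ 2 ^ j) * g⁻¹ := by
        rw [conj_pow]; group
      have h4 := hsq ⟨_, pow_mem hg (2 ^ j)⟩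
        (fun e => BSW.conj_ne_one h1 (h5.symm.trans (congrArg Subtype.val e)))
        (Subtype.ext (by
          have := BSW.conj_mul_self (g := g) h2
          rwa [← h5] at this))
      obtain ⟨t, h6, h7⟩ := conj_in hp hS' (mem_cent1_iff_conj.2 (by
        rw [← h3]; exact h5.symm.trans (congrArg Subtype.val (h4.trans h3.symm)))) hu.1 hg
      rw [h7]
      refine ⟨(⟨u, hu.1⟩ : P)⁻¹ * (⟨t, h6⟩ * ⟨u, hu.1⟩ * (⟨t, h6⟩ : P)⁻¹), mem_sup_right ?_, rfl⟩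
      rw [h.frattini_eq, ← h.commutator_eq, show ∀ a b : P, a⁻¹ * (b * a * b⁻¹) = ⁅a⁻¹, b⁆ from
        fun a b => by simp [commutatorElement_def, mul_assoc]]
      exact commutator_mem_commutator (mem_top _) (mem_top _)
  rw [hG, inf_top_eq, le_map_subtype_iff le_rfl, subgroupOf_self, top_le_iff] at this
  have h7 := frattini_nongenerating this
  obtain ⟨i, hi⟩ : x ∈ zpowers s := h7 ▸ mem_top x
  exact h.not_commute hs (by rw [← hi]; exact Commute.self_zpow s i)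

theorem dh_of_dqs [IsSimpleGroup G] (hn : ¬ IsMulCommutative G) (hC : PN G) (hS : Syl 2 S ⊤)
    {n : ℕ} {x y : S} (h : PGrp.IsDQS n x y) : DH G := by
  have k : ∀ v : S, (v : G) ∈ zpowers (x : G) ↔ v ∈ zpowers x := fun v =>
    ⟨fun ⟨i, hi⟩ => ⟨i, Subtype.ext (by simpa using hi)⟩, fun ⟨i, hi⟩ => ⟨i, by simp [← hi]⟩⟩
  by_cases hs : ∃ s : S, s ∉ zpowers x ∧ s * s = 1
  · obtain ⟨s, hs, s2⟩ := hs
    have e := inverts_of_dqs hC (res hn) hS h hs s2
    refine CS2.dh_of_syl hS (a := x) (fun v hv n => ?_) fun v hv w hw n n' => ?_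
    · obtain ⟨i, hi⟩ := h.mul_inv_mem (mt (k ⟨v, hv⟩).2 n) hs
      simp only [eq_mul_inv_iff_mul_eq] at hi
      have : (⟨v, hv⟩ : S) * ⟨v, hv⟩ = 1 := by
        rw [← hi, show x ^ i * s * (x ^ i * s) = x ^ i * (s * x ^ i * s⁻¹) * (s * s) by group, s2,
          ← conj_zpow, e]
        simp
      exact congrArg Subtype.val this
    · have := h.mul_inv_mem (mt (k ⟨v, hv⟩).2 n) (g' := (⟨w, hw⟩ : S)⁻¹)
        (by rw [inv_mem_iff]; exact mt (k ⟨w, hw⟩).2 n')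
      rw [inv_inv] at this
      exact (k _).2 this
  · push Not at hs
    obtain ⟨m, rfl⟩ := Nat.exists_eq_add_of_le' h.1
    have ho := h.2.2.1
    have z1 : x ^ 2 ^ (m + 1) ≠ 1 := pow_ne_one_of_lt_orderOf (by positivity)
      (ho ▸ Nat.pow_lt_pow_right one_lt_two (Nat.lt_succ_self _))
    have z2 : x ^ 2 ^ (m + 1) * x ^ 2 ^ (m + 1) = 1 := by
      rw [← pow_add, ← two_mul, ← pow_succ', ← ho, pow_orderOf_eq_one]
    have z3 : ((x ^ 2 ^ (m + 1) : S) : G) ≠ 1 := fun e => z1 (Subtype.ext e)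
    have z4 : ((x ^ 2 ^ (m + 1) : S) : G) * (x ^ 2 ^ (m + 1) : S) = 1 := congrArg Subtype.val z2
    refine absurd (fun g hg => ?_) (not_iso hn hS (x ^ 2 ^ (m + 1) : S).2 z3 z4)
    have h2 : (⟨_, hg⟩ : S) * ⟨_, hg⟩ = 1 := Subtype.ext (BSW.conj_mul_self z4)
    exact congrArg Subtype.val (CIT.eq_of_mem_zpowers ho (by_contra fun e => hs _ e h2)
      (fun e => BSW.conj_ne_one z3 (congrArg Subtype.val e)) h2)

theorem conj_f (h : F4 z f) (hn : g ∈ 𝐍(S4 z f)) (h1 : g ∈ 𝐂[z]) (h2 : g ∉ 𝐂[f]) :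
    g * f * g⁻¹ = z * f :=
  (h.eq_or (h.conj_cent h1) (conj_mem_of_norm hn (s_mem_S4 z f))).resolve_left
    fun e => h2 (mem_cent1_iff_conj.2 e)

theorem dh_of_out (h : F4 z f) (hS : Syl 2 (S4 z f ⊔ zpowers a) ⊤) (hn : a ∈ 𝐍(S4 z f))
    (h1 : a ∈ 𝐂[z]) (h2 : a ∉ 𝐂[f]) (a2 : a * a = 1) : DH G := by
  have e := conj_f h hn h1 h2
  have e1 : a * f * (a * f) = z := by
    rw [show a * f * (a * f) = a * f * a⁻¹ * (a * a) * f by group, e, a2, mul_one, mul_assoc, h.e2,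
      mul_one]
  have e2 : z ∈ zpowers (a * f) := e1 ▸ mul_mem (mem_zpowers _) (mem_zpowers _)
  have e3 : S4 (a * f) f = S4 z f ⊔ zpowers a := le_antisymm
    (S4_le.2 ⟨mul_mem (mem_sup_right (mem_zpowers a)) (mem_sup_left (s_mem_S4 z f)),
      mem_sup_left (s_mem_S4 z f)⟩)
    (sup_le (S4_le.2 ⟨mem_sup_left e2, s_mem_S4 _ _⟩) (zpowers_le.2
      ((mul_mem_cancel_right (s_mem_S4 (a * f) f)).1 (t_mem_S4 _ _))))
  refine dh_of_cf (a := a * f) (s := f) (t := z) ⟨mem_top _, mem_top _, e3 ▸ hS, h.e2, fun ⟨i, hi⟩ => ?_,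
    ?_, e2, h.t1, h.t2, e1 ▸ h.t1⟩
  · refine h2 ((mul_mem_cancel_right (mem_cent1.2 (Commute.refl f))).1 (mem_cent1.2 ?_))
    simp only at hi
    have := Commute.self_zpow (a * f) i
    rwa [hi] at this
  · rw [mul_inv_rev, inv_eq a2, inv_eq h.e2, mul_assoc, mul_assoc, h.e2, mul_one]

/-- the strongly closed case: `T` centralizes the four-group -/
theorem le_cent [IsSimpleGroup G] (hn : ¬ IsMulCommutative G) (h : F4 z f) (hS : Syl 2 S ⊤)
    (hA : R4.SC (S4 z f)) (hle : S4 z f ≤ S) (hz : S ≤ 𝐂[z]) : S ≤ 𝐂(S4 z f) := by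
  have := Fact.mk Nat.prime_two
  have hN := hA.le_norm hS.isPGroup hle
  have hc := hA.ctl hS hle
  obtain ⟨P, rfl⟩ := hS.exists_sylow_top
  have := Transfer.sylow_inf_pResidual_le_of_fusion P (M := 𝐂(S4 z f)) fun u hu g _ hg => by
    obtain ⟨n, hn', e⟩ := hc.elt hu.1 (mem_top g) hg
    rw [e] at hg ⊢
    by_cases h1 : u ∈ 𝐂(S4 z f)
    · exact mul_mem (inv_mem h1) (conj_mem_of_norm (norm_le_norm_cent _ hn'.2) h1)
    have h2 : n * u * n⁻¹ ∉ 𝐂(S4 z f) := fun e' => h1 (by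
      simpa [mul_assoc] using conj_mem_of_norm' (norm_le_norm_cent _ hn'.2) e')
    rw [cent_S4] at h1 h2 ⊢
    have h3 := conj_f h (hN hu.1) (hz hu.1) fun e' => h1 ⟨hz hu.1, e'⟩
    have h4 := conj_f h (hN hg) (hz hg) fun e' => h2 ⟨hz hg, e'⟩
    refine ⟨hz (mul_mem (inv_mem hu.1) hg), mem_cent1_iff_conj.2 ?_⟩
    calc _ = u⁻¹ * (n * u * n⁻¹ * f * (n * u * n⁻¹)⁻¹) * u := by group
      _ = f := by rw [h4, ← h3]; group
  rwa [res hn, inf_top_eq] at this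

theorem exists_q4 [IsSimpleGroup G] (hn : ¬ IsMulCommutative G) (h : R4.SC A) (h4 : ♯A = 4)
    (hS : Syl 2 S ⊤) (hle : A ≤ S) (hSC : S ≤ 𝐂(A)) : ∃ r ∈ 𝐍(S), PiElt {3} r ∧ R4.Q4 A r := by
  have := Fact.mk Nat.prime_two
  have hA := h.elem
  have hSA := h.le_norm hS.isPGroup hle
  have hsq : ∀ n ∈ 𝐍(A), n * n ∈ 𝐂(A) → n ∈ 𝐂(A) := fun n hn' e => by
    refine mem_of_constt_mem (π := {2}) ?_ (R4.mem_of_odd_sq (Nat.not_even_iff_odd.1 fun e' =>
      (piElt_constt {2}ᶜ n).not_dvd Nat.prime_two (by simp) e'.two_dvd) ?_)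
    · obtain ⟨k, hk, e'⟩ := (hS.mono hSA le_top).exists_conj_le (zpowers_le.2 (constt_mem {2} hn'))
        (isPGroup_zpowers_iff.2 (piElt_constt _ _))
      simpa [mul_assoc] using conj_mem_of_norm' (norm_le_norm_cent _ hk)
        (hSC (e' (conj_mem_conj (mem_zpowers _))))
    · rw [← sq, ← constt_pow, sq]; exact constt_mem _ e
  have fix : ∀ n ∈ 𝐍(A), ∀ c ∈ A, c ≠ 1 → n * c * n⁻¹ = c → n ∈ 𝐂(A) := fun n hn' c hc c1 e => by
    obtain ⟨d, hd, hd'⟩ : ∃ d ∈ A, d ∉ zpowers c := by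
      by_contra! e'
      have := card_le_of_le (H := A) (K := zpowers c) e'
      rw [h4, Nat.card_zpowers, orderOf_eq_two (R4.abelem_sq hA hc) c1] at this
      omega
    have d1 : d ≠ 1 := fun e' => hd' (e' ▸ one_mem _)
    have cd : c ≠ d := fun e' => hd' (e' ▸ mem_zpowers _)
    refine hsq n hn' (R4.four_cent hA h4 hc hd c1 d1 cd (by rw [mul_cj, e, e]) ?_)
    rcases R4.four_cases hA h4 hc hd c1 d1 cd (conj_mem_of_norm hn' hd) with e' | e' | e' | e'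
    · exact absurd e' (conj_ne_one.2 d1)
    · exact absurd (by simpa using e'.trans e.symm) cd.symm
    · rw [mul_cj, e', e']
    · rw [mul_cj, e', cj_mul, e, e', ← mul_assoc, R4.abelem_sq hA hc, one_mul]
  obtain ⟨a, ha, a1⟩ := exists_mem_ne_one (H := A) fun e => by rw [e, card_bot] at h4; omega
  obtain ⟨x, hx, h1⟩ : ∃ x ∈ 𝐍(A), x ∉ 𝐂[a] := by
    by_contra! e
    exact h.not_le_cent hn ha a1 e
  have hb := conj_mem_of_norm hx ha
  have b1 : x * a * x⁻¹ ≠ 1 := conj_ne_one.2 a1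
  have ab : a ≠ x * a * x⁻¹ := fun e => h1 (mem_cent1_iff_conj.2 e.symm)
  generalize hxa : x * a * x⁻¹ = b at hb b1 ab
  have h2 : x * b * x⁻¹ = a * b := by
    rcases R4.four_cases hA h4 ha hb a1 b1 ab (conj_mem_of_norm hx hb) with e | e | e | e
    · exact absurd e (conj_ne_one.2 b1)
    · exact absurd (cent_le_cent1 ha (hsq x hx (fix _ (mul_mem hx hx) a ha a1
        (by rw [mul_cj, hxa, e])))) h1
    · exact absurd (by simpa using hxa.trans e.symm) ab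
    · exact e
  have c1 := ab_iff.1 (abelem_ab hA) a ha b hb
  have e1 : b * (a * b) = a := by rw [c1, ← mul_assoc, R4.abelem_sq hA hb, one_mul]
  have h5 : x * (a * b) * x⁻¹ = a := by rw [cj_mul, hxa, h2, e1]
  obtain ⟨c, hc, n, hn, rfl⟩ := ((hS.mono hSC le_top).frattini
    ⟨cent_le_norm A, norm_le_norm_cent A⟩).mem_iff.1 hx
  have h6 : ∀ v ∈ A, n * v * n⁻¹ = c * n * v * (c * n)⁻¹ := fun v hv => by
    rw [← mem_cent_iff_conj.1 hc _ (conj_mem_of_norm hn.1 hv)]; group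
  have h7 : n ^ 3 ∈ 𝐂(A) := fix _ (pow_mem hn.1 3) a ha a1 (by
    calc _ = n * (n * (n * a * n⁻¹) * n⁻¹) * n⁻¹ := R4.cube_conj n a
      _ = _ := by rw [h6 a ha, hxa, h6 b hb, h2, h6 _ (mul_mem ha hb), h5])
  refine ⟨_, constt_mem {3} hn.2, piElt_constt _ n, hA, h4, constt_mem _ hn.1, fun e => h1 ?_, fix⟩
  refine cent_le_cent1 ha (mul_mem hc (mem_of_constt_mem e ?_))
  refine zpowers_le.2 (?_ : constt {3}ᶜ n ^ 3 ∈ 𝐂(A)) (mem_zpowers_pow_iff.2
    ((Nat.prime_three.coprime_iff_not_dvd).2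
      ((isPiNum_compl_singleton Nat.prime_three).1 (piElt_constt _ n))))
  rw [← constt_pow]
  exact constt_mem _ h7

theorem dh_of_sc [IsSimpleGroup G] (hn : ¬ IsMulCommutative G) (hC : PN G) (h8 : ¬ E8 G)
    (h : F4 z f) (hS : Syl 2 S ⊤) (hle : S4 z f ≤ S) (hz : S ≤ 𝐂[z])
    (hi : ∀ x ∈ S, x * x = 1 → x ∈ S4 z f) : DH G := by
  have := Fact.mk Nat.prime_two
  have hA : R4.SC (S4 z f) := R4.sc_of_scl hS (isEp h).abelem fun a ha g _ hg =>
    hi _ hg (conj_sq (h.sq ha) g)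
  have h1 := le_cent hn h hS hA hle hz
  by_cases hab : Ab S
  · have h2 : ¬ 8 ∣ Nat.card G := W0.w0 G inferInstance hn (fun P hP => by
      obtain ⟨g, -, e⟩ := hS.exists_conj_le le_top hP
      exact ab_conj.1 (ab_of_le hab e)) fun B hB => by
        obtain ⟨n, k⟩ := exists_isEp_of_abelem hB (le_top (a := B))
        by_contra! e
        refine h8 ((k.exists_le (k := 3) ?_).imp fun C hC => hC.top)
        by_contra! e'
        have h3 : ♯B ≤ 2 ^ 2 := k.card ▸ Nat.pow_le_pow_right two_pos (by omega)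
        exact absurd (e.trans h3) (by norm_num)
    have h3 := (h.mk_pair (mem_top z) (mem_top f) (by rwa [card_top])).syl
    refine CS2.dh_of_syl h3 (a := z) (fun x hx _ => h.sq hx) fun x hx y hy n n' => ?_
    have m := mem_zpowers z
    rcases h.mem.1 hx with rfl | rfl | rfl | rfl
    · exact absurd (one_mem _) n
    · exact absurd m n
    all_goals rcases h.mem.1 hy with rfl | rfl | rfl | rfl
    · exact absurd (one_mem _) n'
    · exact absurd m n'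
    · exact h.e2 ▸ one_mem _
    · exact h.ete.symm ▸ m
    · exact absurd (one_mem _) n'
    · exact absurd m n'
    · rw [mul_assoc, h.e2, mul_one]; exact m
    · exact h.mul_sq ▸ one_mem _
  obtain ⟨r, h2, h3, h5⟩ := exists_q4 hn hA h.card hS hle h1
  have k : R4.US S (S4 z f) r := ⟨h5, hS, h2, h3, hle, h1, hi, hab⟩
  refine ((k.hyp hA fun n hn' => ⟨cent_le_norm _ hn'.2, fun x hx => ?_⟩).false_of (perf hn)).elim
  obtain ⟨t, ht, e⟩ := conj_in (hC z h.t1 h.t2) (hS.mono hz le_top)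
    (cent_le_cent1 (t_mem_S4 z f) hn'.2) hx (conj_mem_of_norm hn'.1 hx)
  rw [commutatorElement_def, e]
  exact k.comm ht hx

end Rk

theorem rk2 (fus : FUS.{u}) : RK2.{u} := fun G _ _ hs hn hC h8 => by
  have := Fact.mk Nat.prime_two
  obtain ⟨S, hS⟩ := exists_syl 2 (⊤ : Subgroup G)
  rcases PGrp.isCyclic_or_dqs_or_exists_normal_elemAb hS.isPGroup with
    h | ⟨-, n, x, y, h⟩ | ⟨E, h1, h2, h3⟩
  · obtain ⟨a, ha⟩ := exists_zpowers_eq h
    exact CS2.dh_of_syl hS (a := a) (fun x hx n => absurd (ha ▸ hx) n)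
      fun x hx y _ n => absurd (ha ▸ hx) n
  · exact Rk.dh_of_dqs hn hC hS h
  have hW : IsEp 2 2 (E.map S.subtype) S := ⟨map_subtype_le _, abelem_map h2 _,
    by rw [card_map_of_injective S.subtype_injective, h3]⟩
  have hN : S ≤ 𝐍(E.map S.subtype) := (normalIn_map_subtype E).norm
  generalize E.map S.subtype = A at hW hN
  obtain ⟨z, ⟨hz, hzS⟩, z1⟩ := exists_mem_ne_one (inf_cent_ne_bot_of_isPGroup hS.isPGroup
    hW.isPGroup hN (hW.ne_bot two_ne_zero))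
  obtain ⟨f, hf, hf'⟩ : ∃ f ∈ A, f ∉ zpowers z := by
    by_contra! e
    exact hW.not_isCyclic le_rfl (isCyclic_of_le' inferInstance e)
  have p : F4 z f := ⟨z1, fun e => hf' (e ▸ one_mem _), fun e => hf' (e ▸ mem_zpowers _),
    R4.abelem_sq hW.abelem hz, R4.abelem_sq hW.abelem hf, ab_iff.1 hW.ab z hz f hf⟩
  obtain rfl : S4 z f = A := (Rk.isEp p).eq_of_le hW (S4_le.2 ⟨hz, hf⟩)
  have hz' : S ≤ 𝐂[z] := le_cent1_iff.2 hzS
  by_cases ha : ∃ a ∈ S, a * a = 1 ∧ a ∉ 𝐂[f]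
  · obtain ⟨a, ha, a2, ha'⟩ := ha
    have q : F4 z a := f4_of_mem p.t1 p.t2 (fun e => ha' (e ▸ one_mem _)) a2 (hz' ha)
      fun e => ha' (e ▸ p.t_mem)
    have e := fus G S z f a hC (Rk.perf hn) hS p ⟨hW.le, hN⟩ hz' ha a2 ha'
      fun e he e2 => Rk.mem_four h8 q he.2 he.1 e2
    exact Rk.dh_of_out p (e ▸ hS) (hN ha) (hz' ha) ha' a2
  · push Not at ha
    exact Rk.dh_of_sc hn hC h8 p hS hW.le hz' fun x hx x2 =>
      Rk.mem_four h8 p (hz' hx) (ha x hx x2) x2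

end Cfsg.Agent.NS
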