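import Cfsg.Agent.Lib.NS.Basic

/-!
# Package RED2 of plan NS
-/

set_option autoImplicit false
set_option linter.unusedSectionVars false

namespace Cfsg.Agent.NS.R2

open Subgroup Cfsg.Agent.OO Cfsg.Agent.Coprime GW GW2
open scoped Pointwise

universe u

variable {G : Type u} [Group G] [Finite G] {K L N : Subgroup G}

theorem two_of_forall (h : ∀ x ∈ N, (orderOf x).Prime → orderOf x = 2) : IsPGroup 2 N := by
  rw [Core.isPGroup_iff_forall_prime_dvd]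
  intro q hq hd
  have : Fact q.Prime := ⟨hq⟩
  obtain ⟨x, hx⟩ := exists_prime_orderOf_dvd_card' q hd
  rw [← orderOf_coe] at hx
  exact hx ▸ h x x.2 (hx ▸ hq)

theorem eq_bot_of_pnil (h : PNil 2 N) (h1 : O N = ⊥) (h2 : Op 2 N = ⊥) : N = ⊥ := by
  rw [← h2, Op_eq_self]
  refine two_of_forall fun x hx hp => by_contra fun hne => ?_
  have h3 := (mem_O h).2 ⟨hx, hp.odd_of_ne_two hne⟩
  rw [h1, mem_bot] at h3
  exact hp.ne_one (by rw [h3, orderOf_one])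

theorem Op_eq_bot (h : Cf0 K) : Op 2 K = ⊥ := by
  by_contra h0
  have hQ : IsPGroup 2 (Op 2 K) := Op_isPGroup 2 K
  have hn : ∀ g : G, g ∈ 𝐍(Op 2 K) := fun g => norm_le_norm_Op 2 K (h.normal.norm (mem_top g))
  refine h.two (two_of_forall fun x hx hp => by_contra fun hne => ?_)
  have ho := hp.odd_of_ne_two hne
  obtain ⟨s, hs, s1, s2⟩ := h.inv x hx hp hne
  have h1 : Op 2 K ⊓ 𝐂[s] ≠ ⊥ := cent_zpowers s ▸
    PGrp.inf_centralizer_ne_bot (ZG.two_elt s2) hQ (zpowers_le.2 (hn s)) h0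
  have hxs : x ∈ 𝐂[s] := mem_cent1_comm.1 hs
  have h2 : x ∈ 𝐂(Op 2 K ⊓ 𝐂[s]) :=
    mem_cent_of_pnil (h.pn s s1 s2) (hQ.to_le inf_le_left) (inf_le_inf_right _ (Op_le 2 K))
      ⟨hx, hxs⟩ (mem_norm_inf (hn x) (le_norm_self _ hxs)) ho
  have h3 : x ∈ 𝐂(Op 2 K) :=
    fpf' hQ (Op_le 2 K) (fun q _ => h.pn q) hx (hn x) ho fun e => h1 (le_bot_iff.1
      (e ▸ fun a ha => ⟨ha.1, mem_cent1.2 (mem_cent_iff.1 h2 a ha)⟩))
  obtain ⟨q, hq, q1, q2⟩ := CIT.exists_inv hQ h0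
  have h4 : PNil 2 (K ⊓ 𝐂(Op 2 K)) := (h.pn q q1 q2).of_le
    (inf_le_inf_left _ (cent_zpowers q ▸ cent_anti (zpowers_le.2 hq)))
  have h5 := Opi_le_of_normal _ (normalIn_inf_cent fun g _ => hn g) ((mem_O h4).2 ⟨⟨hx, h3⟩, ho⟩)
  rw [show Opi _ K = ⊥ from h.odd, mem_bot] at h5
  exact hp.ne_one (by rw [h5, orderOf_one])

end Cfsg.Agent.NS.R2

namespace Cfsg.Agent.NS

open Subgroup Cfsg.Agent.OO Cfsg.Agent.Coprime GW GW2
open scoped Pointwise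

universe u

theorem red2 : RED2.{u} := by
  intro G _ _ K h
  have h0 : K ≠ ⊥ := fun e => h.two (e ▸ IsPGroup.of_bot)
  obtain ⟨L, hL, hLK⟩ := exists_minNormalBy h0 h.normal.norm
  have hn : L ⊴ K := ⟨hLK, le_top.trans hL.norm⟩
  have key : ∀ N, N ⊴ L → PNil 2 N → N = ⊥ := fun N hN hp => R2.eq_bot_of_pnil hp
    (le_bot_iff.1 (((Opi_le_of_normal _ hN).trans (Opi_le_of_normal _ hn)).trans h.odd.le))
    (le_bot_iff.1 (((Op_le_of_normal _ hN).trans (Op_le_of_normal _ hn)).trans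
      (R2.Op_eq_bot h).le))
  refine ⟨L, ⟨⟨⟨le_top, hL.norm⟩, fun s s1 s2 => (h.pn s s1 s2).of_le (inf_le_inf_right _ hLK),
    fun x hx => h.inv x (hLK hx)⟩, fun N hN => or_iff_not_imp_left.2 fun hN0 => ?_,
    fun ha => hL.ne_bot (key L ⟨le_rfl, le_norm_self L⟩ (pnil_of_nil 2 (nil_of_ab ha)))⟩⟩
  obtain ⟨M, hM, hMN⟩ := exists_minNormalBy hN0 hN.norm
  have hML : M ≤ L := hMN.trans hN.le
  suffices hs : ⊤ ≤ 𝐍(M) from
    le_antisymm hN.le ((hL.eq_of_ne_bot hML hs hM.ne_bot).ge.trans hMN)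
  intro g _
  have hg : g ∈ 𝐍(L) := hL.norm (mem_top g)
  have hM' : IsMinNormalBy (g •ᶜ M) L := conj_eq_of_mem_norm hg ▸ hM.conj g
  have hle : g •ᶜ M ≤ L := conj_le_of_mem_norm hg hML
  refine mem_norm_of_conj_le ((hM'.inf_eq_bot_or_le hM.norm).resolve_left fun e => ?_)
  have hc : g •ᶜ M ≤ 𝐂(M) := le_cent_of_inf_eq_bot (hle.trans hM.norm) (hML.trans hM'.norm) e
  obtain ⟨s, hs, s1, s2⟩ : ∃ s ∈ M, s ≠ 1 ∧ s * s = 1 := by
    by_contra hc'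
    push Not at hc'
    exact hM.ne_bot (key M ⟨hML, hM.norm⟩ (pnil_of_odd
      (odd_of_forall fun a ha a2 => by_contra fun a1 => hc' a ha a1 a2) fun _ hx _ => hx))
  exact hM'.ne_bot (key _ ⟨hle, hM'.norm⟩ ((h.pn s s1 s2).of_le (le_inf (hle.trans hLK)
    (hc.trans (cent_zpowers s ▸ cent_anti (zpowers_le.2 hs))))))

end Cfsg.Agent.NS
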