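import Cfsg.Agent.Lib.NS.Basic
import Cfsg.Agent.Lib.ZN.ZC

/-!
# Package SIG of plan NS: the signalizer functor `t ↦ O(C(t))`
-/

set_option autoImplicit false

namespace Cfsg.Agent.NS

open Subgroup Cfsg.Agent.OO Cfsg.Agent.Coprime GW GW2
open scoped Pointwise

universe u

namespace Sg

variable {G : Type u} [Group G] [Finite G] {A E F T : Subgroup G} {a b e f g u z : G}

theorem hc (h : PN G) : ZN.HC G := fun t ht => by
  have h1 := h t (ZN.ne_one_of_inv ht) (ZN.mul_self_of_inv ht)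
  obtain ⟨R, hR⟩ := exists_syl 2 𝐂[t]
  have h2 := h1.sdprod hR
  rw [← h2.sup_eq, sup_comm]
  exact sol_sup h2.le_norm (sol_of_isPGroup hR.isPGroup) (sol_of_odd (odd_O _))

theorem isEp (p : F4 a b) (ha : a ∈ T) (hb : b ∈ T) : IsEp 2 2 (S4 a b) T :=
  (p.pair.isEp).of_le (S4_le.2 ⟨ha, hb⟩)

theorem isEp3 (p : F4 a b) (ha : a ∈ T) (hb : b ∈ T) (he : e ∈ T) (h1 : e ∈ 𝐂[a]) (h2 : e ∈ 𝐂[b])
    (e2 : e * e = 1) (h3 : e ∉ S4 a b) : IsEp 2 3 (S4 a b ⊔ zpowers e) T :=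
  (isEp p ha hb).sup_one (isEp_zpowers he (orderOf_eq_two e2 fun e1 => h3 (e1 ▸ one_mem _)))
    (by rw [zpowers_le, cent_S4]; exact ⟨h1, h2⟩) (by rwa [zpowers_le])

theorem card_inf_cent (hF : IsEp 2 2 F ⊤) (hA : IsEp 2 3 A ⊤) (hn : A ≤ 𝐍(F)) :
    4 ≤ ♯(A ⊓ 𝐂(F)) := by
  have h1 := logn_quotient_cent_abelem hn hF.abelem hF.card.le
  have h2 := card_mul_relIndex (inf_le_left : A ⊓ 𝐂(F) ≤ A)
  have h3 : (A ⊓ 𝐂(F)).relIndex A ∣ 2 ^ 3 := hA.card ▸ relIndex_dvd_card _ _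
  obtain ⟨k, -, hk⟩ := (Nat.dvd_prime_pow Nat.prime_two).1 h3
  rw [hA.card, hk] at h2
  obtain _ | _ | k := k
  · omega
  · omega
  · exact absurd (hk ▸ pow_dvd_pow 2 (by omega)) h1

theorem exists_four (hT : IsPGroup 2 T) (hE : IsEp 2 3 E T) :
    ∃ z f, F4 z f ∧ S4 z f ⊴ T ∧ T ≤ 𝐂[z] := by
  have h0 : T ≠ ⊥ := fun e => hE.ne_bot (by norm_num) (le_bot_iff.1 (e ▸ hE.le))
  obtain ⟨C, h1, h2, h3⟩ | ⟨W, hW, hn⟩ := ZN.exists_cyclic_or_four hT h0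
  · have h4 := card_inf_mul_relIndex C E
    have h5 := Nat.le_of_dvd (relIndex_pos _ _) (relIndex_dvd_of_le_norm hE.le
      (show T ≤ 𝐍(C) from (normal_subgroupOf_iff_le_normalizer h1).1
        (normal_of_index_eq_two h3)))
    rw [hE.card] at h4
    rw [h3] at h5
    exact (ZN.not_isCyclic_of_card (abelem_of_le hE.abelem (inf_le_right : C ⊓ E ≤ E))
      (by nlinarith) (isCyclic_of_le' h2 inf_le_left)).elim
  · obtain ⟨z, hz, z1⟩ := exists_mem_ne_one (inf_cent_ne_bot_of_nil (nil_of_isPGroup hT)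
      (⟨hW.le, hn⟩ : W ⊴ T) (hW.ne_bot (by norm_num)))
    have z2 := ZN.inv_of_abelem hW.abelem hz.1 z1
    have h1 : ¬ W ≤ zpowers z := fun h => hW.not_isCyclic le_rfl (isCyclic_of_le' inferInstance h)
    obtain ⟨f, hf, h2⟩ := SetLike.not_le_iff_exists.1 h1
    have f1 : f ≠ 1 := fun e => h2 (e ▸ one_mem _)
    have p : F4 z f := ⟨z1, f1, fun e => h2 (e ▸ mem_zpowers _), ZN.mul_self_of_inv z2,
      ZN.mul_self_of_inv (ZN.inv_of_abelem hW.abelem hf f1), ab_iff.1 hW.ab _ hz.1 _ hf⟩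
    have e : S4 z f = W := eq_of_le_of_card_le (S4_le.2 ⟨hz.1, hf⟩) (by rw [hW.card, p.card]; rfl)
    exact ⟨z, f, p, e ▸ ⟨hW.le, hn⟩, le_cent1_iff.2 hz.2⟩

/-- the configuration -/
structure St (T E : Subgroup G) (z f : G) : Prop where
  pn : PN G
  syl : Syl 2 T ⊤
  ep : IsEp 2 3 E T
  p : F4 z f
  normal : S4 z f ⊴ T
  cent : T ≤ 𝐂[z]

namespace St

variable (h : St T E z f)
include h

theorem hz : z ∈ T := h.normal.le (t_mem_S4 z f)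

theorem hf : f ∈ T := h.normal.le (s_mem_S4 z f)

theorem ep2 : IsEp 2 2 (S4 z f) T := isEp h.p h.hz h.hf

theorem le : T ≤ 𝐍(ZN.KK (S4 z f)) := h.normal.norm.trans (ZN.norm_le_norm_KK _)

theorem sylM : Syl 2 T 𝐍(ZN.KK (S4 z f)) := h.syl.mono h.le le_top

theorem KK_eq (hA : IsEp 2 3 A T) : ZN.KK A = ZN.KK (S4 z f) := by
  have h1 := abelem_of_le hA.abelem (inf_le_left : A ⊓ 𝐂(S4 z f) ≤ A)
  have h2 := ZN.not_isCyclic_of_card h1 (lt_of_lt_of_le (by norm_num)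
    (card_inf_cent h.ep2.top hA.top (hA.le.trans h.normal.norm)))
  rw [ZN.KK_eq_KK (hc h.pn) hA.abelem h1 (hA.not_isCyclic (by norm_num)) h2
    (hA.le_cent.trans (cent_anti inf_le_left)),
    ZN.KK_eq_KK (hc h.pn) h1 h.ep2.abelem h2 (h.ep2.not_isCyclic le_rfl) inf_le_right]

theorem KK_eq' (hA : IsEp 2 3 A 𝐍(ZN.KK (S4 z f))) : ZN.KK A = ZN.KK (S4 z f) := by
  obtain ⟨m, hm, h1⟩ := h.sylM.exists_conj_le hA.le hA.isPGroup
  have h2 := h.KK_eq ((hA.conj m).of_le h1)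
  rw [ZN.KK_conj] at h2
  rw [← inv_conj_conj m (ZN.KK A), h2, conj_eq_of_mem_norm (inv_mem hm)]

theorem mem (hA : IsEp 2 3 A 𝐍(ZN.KK (S4 z f))) (hg : g •ᶜ A ≤ 𝐍(ZN.KK (S4 z f))) :
    g ∈ 𝐍(ZN.KK (S4 z f)) := by
  have h1 := h.KK_eq' ((hA.conj g).of_le hg)
  rwa [ZN.KK_conj, h.KK_eq' hA, conj_eq_self_iff] at h1

theorem th_le (hA : IsEp 2 3 A 𝐍(ZN.KK (S4 z f))) (hu : u ∈ A) (u1 : u ≠ 1) :
    O 𝐂[u] ≤ ZN.KK (S4 z f) := h.KK_eq' hA ▸ ZN.th_le_KK_of_mem hu u1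

theorem cent_le (hA : IsEp 2 3 A 𝐍(ZN.KK (S4 z f))) (hu : u ∈ A) (u1 : u ≠ 1) :
    𝐂[u] ≤ 𝐍(ZN.KK (S4 z f)) := by
  obtain ⟨R, hR, h1⟩ := exists_syl_ge (hA.le_cent.trans (cent_le_cent1 hu)) hA.isPGroup
  obtain ⟨g, -, h2⟩ := h.syl.exists_conj_le le_top hR.isPGroup
  have h3 := h.mem hA ((conj_mono g h1).trans (h2.trans h.le))
  rw [← ((h.pn u u1 (ZN.mul_self_of_inv (ZN.inv_of_abelem hA.abelem hu u1))).sdprod hR).sup_eq]
  refine sup_le (le_norm_of_le (h.th_le hA hu u1)) ?_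
  have h4 := conj_le_iff_le_inv_conj.1 (h2.trans h.le)
  rwa [conj_eq_of_mem_norm (le_norm_self _ (inv_mem h3))] at h4

theorem not_le : ¬ E ⊓ 𝐂[f] ≤ S4 z f := fun h1 => by
  have h2 : E ⊓ 𝐂(S4 z f) = S4 z f := eq_of_le_of_card_le
    (le_trans (inf_le_inf_left _ (cent_le_cent1 (s_mem_S4 z f))) h1)
    (h.p.card ▸ card_inf_cent h.ep2.top h.ep.top (h.ep.le.trans h.normal.norm))
  have h3 : f ∈ E := (h2.ge (s_mem_S4 z f)).1
  have h4 := card_le ((le_inf le_rfl (h.ep.le_cent.trans (cent_le_cent1 h3))).trans h1)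
  rw [h.ep.card, h.p.card] at h4
  omega

theorem exists_ep : ∃ A, IsEp 2 3 A T ∧ S4 z f ≤ A := by
  obtain ⟨e, he, h1⟩ := SetLike.not_le_iff_exists.1 h.not_le
  exact ⟨_, isEp3 h.p h.hz h.hf (h.ep.le he.1) (h.cent (h.ep.le he.1)) he.2
    (by rw [← pow_two]; exact h.ep.abelem.2 e he.1) h1, le_sup_left⟩

theorem exists_ep_mem (fus : FUS.{u}) (hp : der (⊤ : Subgroup G) = ⊤) (hu : u ∈ T) (u1 : u ≠ 1)
    (u2 : u * u = 1) : ∃ A, IsEp 2 3 A 𝐍(ZN.KK (S4 z f)) ∧ u ∈ A := by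
  obtain ⟨A, hA, h1⟩ := h.exists_ep
  by_cases h2 : u ∈ S4 z f
  · exact ⟨A, hA.mono h.le, h1 h2⟩
  by_cases h3 : u ∈ 𝐂[f]
  · exact ⟨_, (isEp3 h.p h.hz h.hf hu (h.cent hu) h3 u2 h2).mono h.le,
      mem_sup_right (mem_zpowers u)⟩
  have p : F4 z u := ⟨h.p.t1, u1, fun e => h2 (e ▸ t_mem_S4 z f), h.p.t2, u2,
    (mem_cent1.1 (h.cent hu)).symm⟩
  by_cases h4 : ∀ e ∈ 𝐂[u] ⊓ 𝐂[z], e * e = 1 → e ∈ S4 z u
  · have h5 := fus G T z f u h.pn hp h.syl h.p h.normal h.cent hu u2 h3 h4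
    have h6 := Nat.le_of_dvd (by rw [h.p.card]; exact Nat.mul_pos (by norm_num) Nat.card_pos)
      (card_sup_dvd (A := S4 z f) (B := zpowers u) (Or.inr (zpowers_le.2 (h.normal.norm hu))))
    rw [← h5, h.p.card, Nat.card_zpowers, orderOf_eq_two u2 u1] at h6
    have h7 : E = T := eq_of_le_of_card_le h.ep.le (by rw [h.ep.card]; omega)
    exact (h3 (mem_cent1.2 (ab_iff.1 (h7 ▸ h.ep.ab) _ hu _ h.hf))).elim
  · push Not at h4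
    obtain ⟨e, he, e2, h5⟩ := h4
    exact ⟨_, (isEp3 p (mem_cent1_self z) (h.cent hu) he.2 he.2 he.1 e2 h5).mono
      (h.cent_le (hA.mono h.le) (h1 (t_mem_S4 z f)) h.p.t1), mem_sup_left (s_mem_S4 z u)⟩

theorem exists_ep_mem' (fus : FUS.{u}) (hp : der (⊤ : Subgroup G) = ⊤)
    (hu : u ∈ 𝐍(ZN.KK (S4 z f))) (u1 : u ≠ 1) (u2 : u * u = 1) :
    ∃ A, IsEp 2 3 A 𝐍(ZN.KK (S4 z f)) ∧ u ∈ A := by
  obtain ⟨m, hm, h1⟩ := h.sylM.exists_conj_le (zpowers_le.2 hu)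
    (ZN.isPGroup_zpowers_inv (orderOf_eq_two u2 u1))
  obtain ⟨A, hA, h2⟩ := h.exists_ep_mem fus hp (h1 (conj_mem_conj (mem_zpowers u)))
    (conj_ne_one.2 u1) (conj_sq u2 m)
  exact ⟨_, hA.conj_of_mem (inv_mem hm), by rwa [mem_conj, inv_inv]⟩

theorem sg (fus : FUS.{u}) (hp : der (⊤ : Subgroup G) = ⊤) : SG (ZN.KK (S4 z f)) where
  odd := by
    rw [← h.KK_eq h.ep, ← Nat.not_even_iff_odd, even_iff_two_dvd]
    exact ZN.KK_odd (hc h.pn) h.ep.abelem h.ep.card.ge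
  even := (h.ep.mono h.le).dvd_card (by norm_num)
  mem u hu u1 u2 y hy ho := by
    obtain ⟨A, hA, h1⟩ := h.exists_ep_mem' fus hp hu u1 u2
    exact h.th_le hA h1 u1 ((mem_O (h.pn u u1 u2)).2 ⟨hy, ho⟩)
  se u hu u1 u2 g hg := by
    obtain ⟨A, hA, h1⟩ := h.exists_ep_mem' fus hp hu u1 u2
    obtain ⟨B, hB, h2⟩ := h.exists_ep_mem' fus hp hg (conj_ne_one.2 u1) (conj_sq u2 g)
    refine h.mem hA (le_trans ?_ (h.cent_le hB h2 (conj_ne_one.2 u1)))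
    rw [cent1_conj]
    exact conj_mono g (hA.le_cent.trans (cent_le_cent1 h1))

end St

end Sg

theorem sig (fus : FUS.{u}) : SIG.{u} := by
  intro G _ _ hs hn hP ⟨E, hE⟩
  obtain ⟨T, hT, h1⟩ := exists_syl_ge (M := ⊤) le_top hE.isPGroup
  obtain ⟨z, f, p, h2, h3⟩ := Sg.exists_four hT.isPGroup (hE.of_le h1)
  exact ⟨_, Sg.St.sg ⟨hP, hT, hE.of_le h1, p, h2, h3⟩ fus
    ((hs.eq_bot_or_eq_top_of_normal _ (normalIn_top.1 (der_normal ⊤))).resolve_left fun e' =>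
      hn ⟨⟨fun x y => ab_iff.1 (ab_iff_der.2 e') x (mem_top x) y (mem_top y)⟩⟩)⟩

end Cfsg.Agent.NS
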