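import Cfsg.Agent.Lib.NS.Red1
import Cfsg.Agent.Lib.NS.Red2
import Cfsg.Agent.Lib.NS.Fus
import Cfsg.Agent.Lib.NS.Sig
import Cfsg.Agent.Lib.NS.RK2
import Cfsg.Agent.Lib.NS.Dih
import Cfsg.Agent.Lib.NS.K1
import Cfsg.Agent.Lib.NS.K2

/-!
# No simple non-abelian group satisfies `SQF.H2`
-/

set_option autoImplicit false

namespace Cfsg.Agent.NS

universe u

theorem ns (S : Type u) [Group S] [Finite S] [IsSimpleGroup S] (hn : ¬ IsMulCommutative S)
    (h : SQF.H2 S) : False :=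
  ns_of red1 red2 (sig fus) (rk2 fus) dih k1 k2 S hn h

end Cfsg.Agent.NS
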