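import Cfsg.Agent.Lib.NS.Basic
import Cfsg.Agent.Lib.GW2.KfB

/-!
# The case of 2-rank at least three, and the assembly
-/

set_option autoImplicit false

namespace Cfsg.Agent.NS

open Subgroup Cfsg.Agent.OO Cfsg.Agent.Coprime GW GW2
open scoped Pointwise

universe u

variable {G : Type u} [Group G] [Finite G] {L T W : Subgroup G} {s t x y : G}

omit [Finite G] in
theorem inv_of_mem_zpowers (e : t * y * t⁻¹ = y⁻¹) (hx : x ∈ zpowers y) : t * x * t⁻¹ = x⁻¹ := by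
  obtain ⟨i, rfl⟩ := hx
  simp only [← conj_zpow, e, inv_zpow]

omit [Finite G] in
theorem norm_cent_of_inv (e : t * x * t⁻¹ = x⁻¹) : t ∈ 𝐍(𝐂[x]) :=
  conj_eq_self_iff.1 (by rw [← cent1_conj, e, ← cent_zpowers, zpowers_inv, cent_zpowers])

omit [Finite G] in
theorem mem_of_odd_sq (ho : Odd (orderOf x)) (h : x * x ∈ T) : x ∈ T := by
  obtain ⟨k, hk⟩ := ho
  have := pow_mem h (k + 1)
  rwa [← sq, ← pow_mul, show 2 * (k + 1) = 2 * k + 1 + 1 by ring, ← hk, pow_succ,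
    pow_orderOf_eq_one, one_mul] at this

theorem SG.se' (h : SG W) (hM : 𝐍(W) ≠ ⊤) : ZL.SE 𝐍(W) := ⟨hM, h.even, fun g hg e => by
  obtain ⟨x, hx, x1, x2⟩ := R1.exists_invol_mem e
  exact hg (inv_mem_iff.1 (h.se x hx.1 x1 x2 g⁻¹ (by simpa using mem_conj.1 hx.2)))⟩

theorem SG.exists_real (h : SG W) (hs : IsSimpleGroup G) (hn : ¬ IsMulCommutative G) :
    ∃ t ∈ 𝐍(W), t ≠ 1 ∧ t * t = 1 ∧ ∃ x, (orderOf x).Prime ∧ t * x * t⁻¹ = x⁻¹ ∧ Odd ♯𝐂[x] ∧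
      ¬ 𝐂[x] ≤ W := by
  by_cases hM : 𝐍(W) = ⊤
  · have h0 : W = ⊥ := (smp_top W ⟨le_top, hM.ge⟩).resolve_right fun e =>
      h.odd.not_two_dvd_nat (by have := h.even; rwa [hM, ← e] at this)
    obtain ⟨t, ht, t1, t2⟩ := R1.exists_invol_mem h.even
    obtain ⟨y, y1, ho, e⟩ := Core.exists_inverted_odd_of_not_mem_pCore_two t2 fun e => t1 (by
      rwa [← Op_top, ZG.Op_eq_bot hn, mem_bot] at e)
    obtain ⟨x, hx, hp⟩ := ZG.exists_prime_mem y1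
    have x1 : x ≠ 1 := fun e => hp.one_lt.ne' (orderOf_eq_one_iff.2 e)
    refine ⟨t, ht, t1, t2, x, hp, inv_of_mem_zpowers e hx, odd_of_forall fun a ha a2 => by_contra
      fun a1 => x1 (mem_bot.1 (h0 ▸ h.mem a (hM ▸ mem_top a) a1 a2 x (mem_cent1_comm.1 ha) ?_)),
      fun e => x1 (mem_bot.1 (h0 ▸ e (mem_cent1_self x)))⟩
    exact odd_of_mem (by rwa [Nat.card_zpowers]) hx
  have hS := h.se' hM
  obtain ⟨t, ht, t1, t2⟩ := R1.exists_invol_mem h.even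
  obtain ⟨w, hw, w2⟩ := hS.exists_out
  have ww : w * w = 1 := by rw [← sq, ← w2, pow_orderOf_eq_one]
  have hy : w * t ∉ 𝐍(W) := fun e => hw ((mul_mem_cancel_right ht).1 e)
  obtain ⟨x, hx, hp⟩ := ZG.exists_prime_mem fun e : w * t = 1 => hy (e ▸ one_mem _)
  have ho : Odd (orderOf x) := odd_of_mem (by
    rw [Nat.card_zpowers, ← Nat.not_even_iff_odd, even_iff_two_dvd]
    exact hS.odd_mul ht (orderOf_eq_two t2 t1) hw w2) hx
  have e1 : t * x * t⁻¹ = x⁻¹ := inv_of_mem_zpowers (by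
    rw [mul_inv_rev, inv_eq t2, inv_eq ww, mul_assoc, mul_assoc, t2, mul_one]) hx
  have e2 : w * x * w⁻¹ = x⁻¹ := inv_of_mem_zpowers (by
    rw [mul_inv_rev, inv_eq t2, inv_eq ww, ← mul_assoc, ww, one_mul]) hx
  refine ⟨t, ht, t1, t2, x, hp, e1, by_contra fun he => ?_, fun e => hy (le_norm_self W (e ?_))⟩
  · obtain ⟨z, hz, z1, z2⟩ := Kf.exists_cent (ZG.two_elt t2) (zpowers_le.2 (norm_cent_of_inv e1)) he
    have h1 := hS.odd_mul (hS.cent_le ht (orderOf_eq_two t2 t1) (cent_zpowers t ▸ hz.2))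
      (orderOf_eq_two z2 z1) hw w2
    have h2 : w * z * x * (w * z)⁻¹ = x⁻¹ := by
      rw [mul_cj, mem_cent1_iff_conj.1 hz.1, e2]
    have h3 : w * z ∈ 𝐂[x] := mem_of_odd_sq (Nat.odd_iff.2 (Nat.two_dvd_ne_zero.1 h1))
      (mem_cent1_iff_conj.2 (by rw [mul_cj, h2, ← conj_inv, h2, inv_inv]))
    rw [mem_cent1_iff_conj.1 h3, eq_inv_iff_mul_eq_one] at h2
    exact hp.one_lt.ne' (orderOf_eq_one_iff.2 (eq_one_of_odd_of_sq ho h2))
  · obtain ⟨i, rfl⟩ := hx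
    exact mem_cent1.2 (Commute.self_zpow _ i)

omit [Finite G] in
theorem Cfg.simple (h : Cfg L) : IsSimpleGroup L :=
  h.smp.isSimpleGroup fun e => h.nab (e ▸ ab_bot)

theorem Cfg.nci (h : Cfg L) {W : Subgroup L} (hW : SG W) (h8 : E8 L) : NCI L := by
  obtain ⟨t, ht, t1, t2, x, hp, e, ho, hX⟩ := hW.exists_real h.simple h.nab
  have t1' : (t : G) ≠ 1 := fun e => t1 (Subtype.ext e)
  have t2' : (t : G) * t = 1 := congrArg Subtype.val t2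
  have ho' : Odd ♯(L ⊓ 𝐂[(x : G)]) := odd_of_forall fun a ha a2 => congrArg Subtype.val
    (eq_one_of_odd_of_sq (odd_of_mem ho (x := ⟨a, ha.1⟩) (mem_cent1.2 (Subtype.ext (mem_cent1.1 ha.2))))
      (Subtype.ext a2))
  have e' : (t : G) ∈ 𝐍(𝐂[(x : G)]) := norm_cent_of_inv (congrArg Subtype.val e)
  obtain ⟨s, hs, s1, s2⟩ := h.inv x x.2 (by rwa [orderOf_coe]) (by
    rw [orderOf_coe]; exact fun e => (odd_of_mem ho (mem_cent1_self x)).not_two_dvd_nat e.symm.dvd)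
  obtain ⟨s, hs, s1, s2⟩ := Kf.exists_cent (ZG.two_elt t2') (zpowers_le.2 e') fun e =>
    s1 (eq_one_of_odd_of_sq (odd_of_mem e hs) s2)
  rw [cent_zpowers] at hs
  have hL : s ∉ L := fun e => s1 (eq_one_of_odd_of_sq (odd_of_mem ho' ⟨e, hs.1⟩) s2)
  have p : F4 (t : G) s := f4_of_mem t1' t2' s1 s2 hs.2 fun e => hL (e ▸ t.2)
  have hn : ∀ g : G, g ∈ 𝐍(L) := fun g => h.normal.2 (mem_top g)
  have k0 : ∀ u ∈ L ⊓ 𝐂[(t : G)], u ≠ 1 → u * u = 1 → ∀ Y ≤ L, Odd ♯Y →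
      Y ⊓ 𝐂[u] ≤ W.map L.subtype := fun u hu u1 u2 Y hY hO y hy =>
    ⟨⟨y, hY hy.1⟩, hW.mem ⟨u, hu.1⟩ (hW.se t ht t1 t2 _ (by
      rwa [show (⟨u, hu.1⟩ : L) * t * (⟨u, hu.1⟩ : L)⁻¹ = t from
        Subtype.ext (mem_cent1_iff_conj.1 hu.2)])) (fun e => u1 (congrArg Subtype.val e))
      (Subtype.ext u2) _ (mem_cent1.2 (Subtype.ext (mem_cent1.1 hy.2)))
      (orderOf_coe (⟨y, hY hy.1⟩ : L) ▸ odd_of_mem hO hy.1), rfl⟩
  have k1 : ∀ f ∈ L ⊓ 𝐂[(t : G)] ⊓ 𝐂[s], f * f = 1 → f ∈ zpowers (t : G) := fun f hf f2 =>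
    by_contra fun h1 => by
      have q : F4 (t : G) f := f4_of_mem t1' t2' (fun e => h1 (e ▸ one_mem _)) f2 hf.1.2
        fun e => h1 (e ▸ mem_zpowers _)
      have k2 : ∀ v : G, v ≠ 1 → v * v = 1 → (t : G) ∈ 𝐂[v] → f ∈ 𝐂[v] →
          L ⊓ 𝐂[(x : G)] ⊓ 𝐂[v] ≤ W.map L.subtype := fun v v1 v2 h2 h3 =>
        (le_O' (h.pn v v1 v2) (inf_le_inf_right _ inf_le_left) (odd_of_le ho' inf_le_left)).trans
          (q.le_of_forall ((S4_le.2 ⟨mem_inf.2 ⟨t.2, h2⟩, mem_inf.2 ⟨hf.1.1, h3⟩⟩).trans (Opi_normal _ _).2) (odd_O _)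
            (k0 t ⟨t.2, mem_cent1_self _⟩ t1' t2' _ ((Opi_le _ _).trans inf_le_left) (odd_O _))
            (k0 f hf.1 q.e1 f2 _ ((Opi_le _ _).trans inf_le_left) (odd_O _))
            (k0 _ (mul_mem ⟨t.2, mem_cent1_self _⟩ hf.1) q.mul_ne_one q.mul_sq _
              ((Opi_le _ _).trans inf_le_left) (odd_O _)))
      have h4 := p.le_of_forall (S4_le.2 ⟨mem_norm_inf (hn _) e', mem_norm_inf (hn _)
        (le_norm_self _ hs.1)⟩) ho' (k0 t ⟨t.2, mem_cent1_self _⟩ t1' t2' _ inf_le_left ho')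
        (k2 s s1 s2 p.t_mem hf.2) (k2 _ p.mul_ne_one p.mul_sq p.mul.t_mem
          (mem_cent1_comm.1 (mul_mem (mem_cent1_comm.1 hf.1.2) (mem_cent1_comm.1 hf.2))))
      refine hX fun y hy => ?_
      obtain ⟨y', hy', e⟩ := h4 (x := y) ⟨y.2, mem_cent1.2 (congrArg Subtype.val (mem_cent1.1 hy))⟩
      exact Subtype.ext e ▸ hy'
  obtain ⟨S, hS, hle⟩ := exists_syl_ge (M := ⊤) le_top p.two
  have hT := hS.inf_normal h.normal
  by_contra hN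
  have hc : ∀ a ∈ S ⊓ L, ∀ b ∈ S ⊓ L, a * a = 1 → b * b = 1 → a * b = b * a :=
    fun a ha b hb a2 b2 => by_contra fun e => hN ⟨(S ⊓ L).subgroupOf L, hT.isPGroup.comap_subtype,
      ⟨a, ha.2⟩, ha, ⟨b, hb.2⟩, hb, Subtype.ext a2, Subtype.ext b2, fun e' => e (congrArg Subtype.val e')⟩
  let V : Subgroup G :=
    { carrier := {v | v ∈ S ⊓ L ∧ v * v = 1}
      one_mem' := ⟨one_mem _, one_mul 1⟩
      mul_mem' := fun {a b} ha hb => ⟨mul_mem ha.1 hb.1, by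
        rw [mul_assoc, ← mul_assoc b, ← hc a ha.1 b hb.1 ha.2 hb.2, mul_assoc, hb.2, mul_one, ha.2]⟩
      inv_mem' := fun {a} ha => by rwa [inv_eq ha.2] }
  have h1 := CIT.le_card_cent_sq (D := V) (fun _ hd => hd.2) (mem_norm_of_conj_mem fun v hv =>
    ⟨conj_mem_of_norm (mem_norm_inf (le_norm_self S (hle (s_mem_S4 _ s))) (hn s)) hv.1,
      conj_sq hv.2 s⟩) s2
  have h2 : ♯(V ⊓ 𝐂[s]) ≤ 2 := by
    rw [← orderOf_eq_two t2' t1', ← Nat.card_zpowers]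
    exact card_le fun v hv => k1 v ⟨⟨hv.1.1.2, mem_cent1.2
      (hc v hv.1.1 t ⟨hle (t_mem_S4 _ s), t.2⟩ hv.1.2 t2')⟩, hv.2⟩ hv.1.2
  obtain ⟨E, hE⟩ := h8
  obtain ⟨g, -, h3⟩ := hT.exists_conj_le (map_subtype_le E) (hE.isPGroup.map _)
  have h5 := (hE.map_of_injective L.subtype_injective).conj g
  have h4 : ♯(g •ᶜ E.map L.subtype) ≤ ♯V := card_le fun v hv =>
    ⟨h3 hv, (sq v).symm.trans (h5.abelem.2 v hv)⟩
  rw [h5.card] at h4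
  nlinarith

theorem Cfg.real (h : Cfg L) (hC : CIT.IsCIT L) (x : L) (hp : (orderOf x).Prime)
    (h2 : orderOf x ≠ 2) : ∃ t : L, t * t = 1 ∧ t * x * t⁻¹ = x⁻¹ := by
  obtain ⟨s, hs, s1, s2⟩ := h.inv x x.2 (by rwa [orderOf_coe]) (by rwa [orderOf_coe])
  obtain ⟨t, ht, t1, t2⟩ := Kf.exists_cent (ZG.two_elt s2) (le_top.trans h.normal.2)
    (Kf.even_of_ne_bot (smp_O h.smp h.nab) ⟨le_rfl, le_norm_self L⟩ fun e => h.nab (e ▸ ab_bot))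
  rw [cent_zpowers] at ht
  refine ⟨⟨t, ht.1⟩, Subtype.ext t2, Subtype.ext (conj_eq_inv t2 ((Opi_normal _ _).2 ht)
    (eq_bot_iff.2 fun y hy => mem_bot.2 ?_) ((mem_O (h.pn s s1 s2)).2
      ⟨⟨x.2, mem_cent1_comm.1 hs⟩, (orderOf_coe x).symm ▸ hp.odd_of_ne_two h2⟩))⟩
  have h1 := (mem_O (h.pn s s1 s2)).1 hy.1
  exact congrArg Subtype.val (hC ⟨t, ht.1⟩ ⟨y, h1.1.1⟩ (fun e => t1 (congrArg Subtype.val e))
    (Subtype.ext t2) (Subtype.ext (mem_cent1.1 hy.2)) (orderOf_coe (⟨y, h1.1.1⟩ : L) ▸ h1.2))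

theorem ns_of (red1 : RED1.{u}) (red2 : RED2.{u}) (sig : SIG.{u}) (rk2 : RK2.{u}) (dih : DIH.{u})
    (k1 : K1.{u}) (k2 : K2.{u}) (S : Type u) [Group S] [Finite S] [hs : IsSimpleGroup S]
    (hn : ¬ IsMulCommutative S) (h : SQF.H2 S) : False := by
  obtain ⟨H, _, _, K, hK⟩ := red1 S hs hn h
  obtain ⟨L, hL⟩ := red2 H K hK
  by_cases h8 : E8 L
  · obtain ⟨W, hW⟩ := sig L hL.simple hL.nab hL.pnL h8
    obtain rfl := k2 L W hL.simple hL.nab hW h8 (hL.nci hW h8)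
    have hC : CIT.IsCIT L := fun t x t1 t2 e ho => mem_bot.1
      (hW.mem t (by rw [norm_bot]; trivial) t1 t2 x (mem_cent1.2 e) ho)
    exact k1 L hL.simple hL.nab hC h8 (hL.nci hW h8) (hL.real hC)
  · exact dih H L hL (rk2 L hL.simple hL.nab hL.pnL h8)

end Cfsg.Agent.NS
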