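import Cfsg.Agent.Lib.NS.Hyp
import Cfsg.Agent.Lib.ZG.Two

/-!
# Package RED1 of plan NS
-/

set_option autoImplicit false
set_option linter.unusedSectionVars false

namespace Cfsg.Agent.NS.R1

open Subgroup Cfsg.Agent.OO Cfsg.Agent.Coprime GW GW2
open scoped Pointwise

universe u

variable {G : Type u} [Group G] [Finite G] {V X Y R A : Subgroup G} {d x y s c : G}

theorem pi_iff_odd : PiElt ({2} : Set ℕ)ᶜ x ↔ Odd (orderOf x) := by
  rw [PiElt, isPiNum_compl_singleton Nat.prime_two, Nat.two_dvd_ne_zero, Nat.odd_iff]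

theorem pi2 (h : IsPGroup 2 X) : PiGrp {2} X := piGrp_of_isPGroup h rfl

theorem eq_one_of_conj {y u d : G} (hy : Odd (orderOf y)) (hd : PiElt {2} d)
    (hc : d * y = y * d) (e : y * u * y⁻¹ = u * d) : d = 1 := by
  have hc' : Commute y d := hc.symm
  have h1 : ∀ j : ℕ, y ^ j * u * (y ^ j)⁻¹ = u * d ^ j := by
    intro j
    induction j with
    | zero => simp
    | succ j ih =>
      calc y ^ (j + 1) * u * (y ^ (j + 1))⁻¹ = y * (y ^ j * u * (y ^ j)⁻¹) * y⁻¹ := by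
            rw [pow_succ']; group
        _ = (y * u * y⁻¹) * (y * d ^ j * y⁻¹) := by rw [ih]; group
        _ = u * d ^ (j + 1) := by
            rw [e, (hc'.pow_right j).eq, pow_succ']; group
  have h2 := h1 (orderOf y)
  rw [pow_orderOf_eq_one] at h2
  have h3 : d ^ orderOf y = 1 := by simpa using h2.symm
  exact hd.eq_one (pi_iff_odd.2 (hy.of_dvd_nat (orderOf_dvd_of_pow_eq_one h3)))

/-- a criterion for 2-nilpotency inside `C(V)` -/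
theorem pnil_of_small (hX : X ≤ 𝐂(V))
    (h : ∀ R ≤ X, IsPGroup 2 R → ∀ a ∈ R, ∀ b ∈ R, a ∉ V → b ∉ V → a⁻¹ * b ∈ V) : PNil 2 X := by
  refine ZG.pnil_two fun R hR h2 g hg hn ho => mem_cent_iff.2 fun r hr => ?_
  by_cases hrV : r ∈ V
  · exact mem_cent_iff.1 (hX hg) r hrV
  have h1 : g * r * g⁻¹ ∈ R := conj_mem_of_norm hn hr
  have h3 : g * r * g⁻¹ ∉ V := fun e => hrV (by
    have := conj_mem_of_norm' (cent_le_norm V (hX hg)) e
    simpa [mul_assoc] using this)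
  have h4 := h R hR h2 r hr _ h1 hrV h3
  have h5 : r⁻¹ * (g * r * g⁻¹) = 1 :=
    eq_one_of_conj (u := r) ho ((pi2 h2).piElt (mul_mem (inv_mem hr) h1))
      (mem_cent_iff.1 (hX hg) _ h4) (by group)
  calc r * g = r * (r⁻¹ * (g * r * g⁻¹)) * g := by rw [h5, mul_one]
    _ = g * r := by group

theorem pnil_of_le (hA : PiGrp ({2} : Set ℕ)ᶜ A) (h : ∀ x ∈ X, Odd (orderOf x) → x ∈ A) :
    PNil 2 X :=
  pnil_iff_Oup.2 (hA.of_le (Oup_le_iff.2 fun x hx ho => h x hx (Nat.coprime_two_right.1 ho)))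

/-- the subgroup `V O(C(V))` -/
abbrev DD (V : Subgroup G) : Subgroup G := O 𝐂(V) ⊔ V

theorem K_le : O 𝐂(V) ≤ 𝐂(V) := Opi_le _ _

theorem dec (hd : d ∈ DD V) : ∃ k ∈ O 𝐂(V), ∃ v ∈ V, k * v = d :=
  (mem_sup_norm_right (K_le.trans (cent_le_norm V))).1 hd

theorem two_mem (hV : IsPGroup 2 V) (hd : d ∈ DD V) (h : PiElt {2} d) : d ∈ V := by
  obtain ⟨k, hk, v, hv, rfl⟩ := dec hd
  have hc : Commute v k := mem_cent_iff.1 (K_le hk) v hv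
  have h1 := constt_eq_of_mul ((pi2 hV).piElt hv) ((Opi_piGrp _ _).piElt hk) hc
  rw [hc.eq, constt_eq_self h] at h1
  rwa [h1]

theorem odd_mem (hV : IsPGroup 2 V) (hd : d ∈ DD V) (h : Odd (orderOf d)) : d ∈ O 𝐂(V) := by
  obtain ⟨k, hk, v, hv, rfl⟩ := dec hd
  have hc : Commute k v := (mem_cent_iff.1 (K_le hk) v hv).symm
  have h1 := constt_eq_of_mul (π := ({2} : Set ℕ)ᶜ) ((Opi_piGrp _ _).piElt hk)
    (IsPiNum.compl_compl ((pi2 hV).piElt hv)) hc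
  rw [constt_eq_self (pi_iff_odd.2 h)] at h1
  rwa [h1]

theorem norm_le (hV : IsPGroup 2 V) : 𝐍(DD V) ≤ 𝐍(V) := fun g hg =>
  mem_norm_of_conj_mem fun _ hx => two_mem hV (conj_mem_of_norm hg (mem_sup_right hx))
    (((pi2 hV).piElt hx).conj g)

theorem le_norm : 𝐍(V) ≤ 𝐍(DD V) :=
  le_norm_sup (le_norm_Opi _ (norm_le_norm_cent V)) le_rfl

theorem C_le : 𝐂(V) ≤ 𝐍(DD V) := (cent_le_norm V).trans le_norm

theorem exists_odd {z : Coset (DD V)} (hz : z ∈ 𝐂(V) ⁒ DD V) (ho : Odd (orderOf z)) :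
    ∃ c ∈ 𝐂(V), Odd (orderOf c) ∧ coset (DD V) c = z := by
  obtain ⟨c, hc, -, h1, h2⟩ := exists_piElt_coset_eq hz (pi_iff_odd.2 ho)
  exact ⟨c, hc, pi_iff_odd.1 h1, h2⟩

theorem not_two (hV : IsPGroup 2 V) (hC : ¬ PNil 2 𝐂(V)) :
    ¬ IsPGroup 2 (𝐂(V) ⁒ DD V : Subgroup _) := fun h => hC <|
  pnil_of_le (Opi_piGrp _ 𝐂(V)) fun _ hx ho => odd_mem hV ((coset_eq_one_iff (C_le hx)).1
    (((pi2 h).piElt (coset_mem_quo _ hx)).eq_one
      ((pi_iff_odd.2 ho).coset _))) ho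

theorem O_eq_bot (hV : IsPGroup 2 V) : O (𝐂(V) ⁒ DD V) = ⊥ := by
  refine le_bot_iff.1 fun z hz => ?_
  have hz' := pi_iff_odd.1 ((Opi_piGrp _ _).piElt hz)
  obtain ⟨c, hc, ho, rfl⟩ := exists_odd (Opi_le _ _ hz) hz'
  set Y := 𝐂(V) ⊓ quoPre (DD V) (O (𝐂(V) ⁒ DD V)) with hY
  have h1 : Y ⊴ 𝐂(V) := ⟨inf_le_left, le_norm_inf (le_norm_self _)
    (le_norm_quoPre C_le (Opi_normal _ _).norm)⟩
  have h2 : PNil 2 Y := pnil_of_small inf_le_left fun R hR h2 a ha _ _ haV _ => by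
    have h3 := (pi2 h2).piElt ha
    have h4 := mem_quoPre.1 (hR ha).2
    exact (haV (two_mem hV ((coset_eq_one_iff h4.1).1
      ((h3.coset _).eq_one ((Opi_piGrp _ _).piElt h4.2))) h3)).elim
  have h3 : c ∈ O Y := (ZG.mem_O h2).2 ⟨⟨hc, mem_quoPre.2 ⟨C_le hc, hz⟩⟩, ho⟩
  exact mem_bot.2 (coset_eq_one (mem_sup_left (Opi_le_of_normal _ h1 h3)))

theorem exists_sqrt (ho : Odd (orderOf x)) : ∃ w ∈ zpowers x, w * w = x := by
  obtain ⟨k, hk⟩ := ho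
  refine ⟨x ^ (k + 1), pow_mem (mem_zpowers x) _, ?_⟩
  rw [← pow_add, show k + 1 + (k + 1) = 2 * k + 1 + 1 by ring, pow_succ, ← hk,
    pow_orderOf_eq_one, one_mul]

theorem lift_cent (hV : IsPGroup 2 V) (hs : s ∈ 𝐍(V)) (s2 : s * s ∈ V) {z : Coset (DD V)}
    (hz : z ∈ 𝐂(V) ⁒ DD V) (ho : Odd (orderOf z)) (hzs : z ∈ 𝐂[coset (DD V) s]) :
    ∃ c ∈ 𝐂(V) ⊓ 𝐂[s], Odd (orderOf c) ∧ coset (DD V) c = z := by
  obtain ⟨c, hc, hco, rfl⟩ := exists_odd hz ho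
  have hsD := le_norm hs
  have hcD := C_le hc
  have hsc : s * c * s⁻¹ ∈ 𝐂(V) := conj_mem_of_norm (norm_le_norm_cent V hs) hc
  have h1 : c⁻¹ * (s * c * s⁻¹) ∈ DD V := by
    rw [← coset_eq_iff hcD (C_le hsc), coset_conj hsD hcD, ← mem_cent1.1 hzs,
      mul_inv_cancel_right]
  have hKo : ∀ k ∈ O 𝐂(V), Odd (orderOf (c * k)) := fun k hk =>
    pi_iff_odd.1 ((PiGrp.sup (piGrp_zpowers.2 (pi_iff_odd.2 hco)) (Opi_piGrp _ 𝐂(V))
      (Or.inl (zpowers_le.2 ((Opi_normal _ _).norm hc)))).piElt (mul_mem_sup (mem_zpowers c) hk))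
  have h2 : c⁻¹ * (s * c * s⁻¹) ∈ O 𝐂(V) := by
    obtain ⟨k, hk, v, hv, e⟩ := dec h1
    have e1 : s * c * s⁻¹ = v * (c * k) := by
      rw [mem_cent_iff.1 (mul_mem hc (K_le hk)) v hv, mul_assoc c k v, e]; group
    have h3 := constt_eq_of_mul ((pi2 hV).piElt hv) (pi_iff_odd.2 (hKo k hk))
      (mem_cent_iff.1 (mul_mem hc (K_le hk)) v hv)
    rw [← e1, constt_eq_one ((pi_iff_odd.2 hco).conj s)] at h3
    rw [← e, ← h3, mul_one]
    exact hk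
  set u := c⁻¹ * (s * c * s⁻¹) with hu
  have h3 : s * u * s⁻¹ = u⁻¹ := by
    have h4 := mem_cent_iff.1 hc _ s2
    calc s * u * s⁻¹ = s * c⁻¹ * s⁻¹ * (s * s * c) * (s * s)⁻¹ := by rw [hu]; group
      _ = u⁻¹ := by rw [h4, hu]; group
  obtain ⟨w, hw, ew⟩ := exists_sqrt (pi_iff_odd.1 ((Opi_piGrp _ _).piElt h2))
  have hwK : w ∈ O 𝐂(V) := zpowers_le.2 h2 hw
  have h4 : s * w * s⁻¹ = w⁻¹ := by
    obtain ⟨n, rfl⟩ := hw
    simp only
    rw [← conj_zpow, h3, inv_zpow]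
  refine ⟨c * w, ⟨mul_mem hc (K_le hwK), mem_cent1.2 ?_⟩, hKo w hwK,
    coset_mul_of_mem hcD (mem_sup_left hwK)⟩
  calc c * w * s = c * (w * w) * w⁻¹ * s := by group
    _ = s * (c * w) := by rw [ew, ← h4, hu]; group

theorem pn (hV : IsPGroup 2 V)
    (hm : ∀ U : Subgroup G, IsPGroup 2 U → V ≤ U → ¬ PNil 2 𝐂(U) → U = V)
    (t : Coset (DD V)) (t1 : t ≠ 1) (t2 : t * t = 1) : PNil 2 (𝐂(V) ⁒ DD V ⊓ 𝐂[t]) := by
  obtain ⟨s0, hs0, rfl⟩ := exists_coset _ t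
  obtain ⟨s, -, hs, hp, e⟩ := exists_piElt_coset_eq (π := {2}) (coset_mem_quo (DD V) (mem_top s0))
    (isPGroup_zpowers_iff.1 (ZG.two_elt t2))
  rw [← e] at t1 t2 ⊢
  have hsV := norm_le hV hs
  have s2 : s * s ∈ V := two_mem hV
    ((coset_eq_one_iff (mul_mem hs hs)).1 (by rw [coset_mul hs hs, t2]))
    (hp.mul_of_commute hp (Commute.refl s))
  have h1 : PNil 2 𝐂(V ⊔ zpowers s) := by
    by_contra hc
    have := hm _ (isPGroup_sup hV (isPGroup_zpowers_iff.2 hp) (Or.inr (zpowers_le.2 hsV)))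
      le_sup_left hc
    exact t1 (coset_eq_one (mem_sup_right (this ▸ mem_sup_right (mem_zpowers s))))
  rw [cent_sup, cent_zpowers] at h1
  refine pnil_of_le ((Opi_piGrp _ (𝐂(V) ⊓ 𝐂[s])).quo (DD V)) fun z hz ho => ?_
  obtain ⟨c, hc, hco, rfl⟩ := lift_cent hV hsV s2 hz.1 ho hz.2
  exact coset_mem_quo _ ((ZG.mem_O h1).2 ⟨hc, hco⟩)

theorem pnil_of_index (hV : IsPGroup 2 V) (h : ¬ 4 ∣ V.index) : PNil 2 𝐂(V) := by
  refine pnil_of_small le_rfl fun R hR h2 a ha b hb haV hbV => ?_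
  have hT : IsPGroup 2 ↥(V ⊔ R) := isPGroup_sup hV h2 (Or.inr (hR.trans (cent_le_norm V)))
  obtain ⟨n, hn⟩ := PGrp.exists_relIndex_eq_pow (H := V) hT
  have h3 : V.relIndex (V ⊔ R) ∣ V.index := relIndex_dvd_index_of_le le_sup_left
  have h4 : n ≠ 0 := by
    rintro rfl
    exact haV (relIndex_eq_one.1 hn (mem_sup_right ha))
  have h5 : n < 2 := by
    by_contra hc
    exact h ((pow_dvd_pow 2 (not_lt.1 hc)).trans (hn ▸ h3))
  have h6 : (V.subgroupOf (V ⊔ R)).index = 2 := by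
    rw [← relIndex, hn, show n = 1 by omega, pow_one]
  have h7 := (mul_mem_iff_of_index_two h6 (a := ⟨a⁻¹, inv_mem (mem_sup_right ha)⟩)
    (b := ⟨b, mem_sup_right hb⟩)).2 (by
      simp only [mem_subgroupOf, inv_mem_iff]
      exact iff_of_false haV hbV)
  exact h7

theorem inv (h2 : SQF.H2 G) (hV : IsPGroup 2 V) (hC : ¬ PNil 2 𝐂(V)) (z : Coset (DD V))
    (hz : z ∈ 𝐂(V) ⁒ DD V) (hp : (orderOf z).Prime) (hne : orderOf z ≠ 2) :
    ∃ s ∈ 𝐂[z], s ≠ 1 ∧ s * s = 1 := by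
  have : Fact (orderOf z).Prime := ⟨hp⟩
  obtain ⟨x, hx, hxD, hpi, e⟩ := exists_piElt_coset_eq (π := {orderOf z}) hz
    ((isPiNum_prime hp).2 rfl)
  obtain ⟨k, hk⟩ := (isPGroup_zpowers_iff.2 hpi).exists_card_eq
  rw [Nat.card_zpowers] at hk
  have h4 := h2 x ⟨_, k, hp, hne, hk⟩
  have hVx : V ≤ 𝐂[x] := fun v hv => mem_cent1.2 (mem_cent_iff.1 hx v hv)
  obtain ⟨U, hU, hVU⟩ := exists_syl_ge hVx hV
  have hne' : V ≠ U := by
    rintro rfl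
    refine hC (pnil_of_index hV fun h => h4 ?_)
    rw [← relIndex_mul_index hVx] at h
    exact (Nat.Coprime.pow_left 2 ((Nat.Prime.coprime_iff_not_dvd Nat.prime_two).2
      hU.not_dvd)).dvd_of_dvd_mul_left h
  obtain ⟨u, hu, huV⟩ := SetLike.exists_of_lt
    (lt_inf_norm_of_nil hU.nil (lt_of_le_of_ne hVU hne'))
  have hu2 : PiElt {2} u := hU.piGrp.piElt hu.1
  have huD := le_norm hu.2
  have h5 : coset (DD V) u ≠ 1 := fun h => huV (two_mem hV ((coset_eq_one_iff huD).1 h) hu2)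
  obtain ⟨s, hs, s1, s2⟩ := ZG.exists_invol (x := coset (DD V) u) fun ho =>
    h5 ((hu2.coset _).eq_one (pi_iff_odd.2 ho))
  refine ⟨s, zpowers_le.2 ?_ hs, s1, s2⟩
  rw [← e]
  exact quo_cent1_le hxD (coset_mem_quo _ (hU.le hu.1))

end Cfsg.Agent.NS.R1

namespace Cfsg.Agent.NS

open Subgroup Cfsg.Agent.OO Cfsg.Agent.Coprime GW GW2

universe u

theorem red1 : RED1.{u} := by
  intro G _ _ hG hn h2
  have h0 : ¬ PNil 2 𝐂((⊥ : Subgroup G)) := fun h => by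
    rw [cent_bot, pnil_iff_hasNormalPComplement, Transfer.hasNormalPComplement_top_iff] at h
    refine not_hasNormalPComplement_of_isSimpleGroup hn ?_ h
    by_contra hc
    have := OO.Feit_Thompson (G := G) (Nat.odd_iff.2 (Nat.two_dvd_ne_zero.1 hc))
    exact hn ⟨⟨IsSimpleGroup.comm_iff_isSolvable.2 this⟩⟩
  obtain ⟨V, -, ⟨hV, hC⟩, hm⟩ := Core.exists_maximal_ge
    (P := fun V : Subgroup G => IsPGroup 2 V ∧ ¬ PNil 2 𝐂(V)) ⟨IsPGroup.of_bot, h0⟩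
  refine ⟨Coset (R1.DD V), inferInstance, inferInstance, 𝐂(V) ⁒ R1.DD V,
    ⟨⟨⟨le_top, fun z _ => ?_⟩, R1.pn hV fun U hU hVU hc => hm U ⟨hU, hc⟩ hVU,
      R1.inv h2 hV hC⟩, R1.O_eq_bot hV, R1.not_two hV hC⟩⟩
  obtain ⟨g, hg, rfl⟩ := exists_coset _ z
  exact coset_mem_norm _ (norm_le_norm_cent V (R1.norm_le hV hg))

end Cfsg.Agent.NS
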